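import Cfsg.Agent.S3188
import Cfsg.Agent.S4593
import Cfsg.Agent.Lib.SESolv.Basic
import Cfsg.Agent.Lib.OddChar.OddTheorem
import Cfsg.Agent.Lib.JankoRee.PSL2Four
import Cfsg.Agent.Lib.SESolv.OmegaLocal

/-!
Groups with abelian Sylow 2-subgroups of exponent four in which every involution is a square, and solvable
centralisers of non-central involutions.
-/

set_option autoImplicit false
set_option linter.style.haveILetI false
set_option linter.unusedSectionVars false

namespace Cfsg.Agent.UType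

open Subgroup

universe u

variable {X : Type u} [Group X] [Finite X]

theorem sylow_index_odd (T : Sylow 2 X) :
    Odd ((T : Subgroup X).subgroupOf (normalizer ((T : Subgroup X) : Set X))).index := by
  haveI : Fact (Nat.Prime 2) := ⟨Nat.prime_two⟩
  rw [← Nat.not_even_iff_odd, even_iff_two_dvd]
  intro hd
  exact T.not_dvd_index (hd.trans (relIndex_dvd_index_of_le le_normalizer))

theorem solvable_of_sylow_normal (S : Sylow 2 X) (hS : (S : Subgroup X).Normal) : Group.IsSolvable X := by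
  haveI := hS
  haveI : Fact (Nat.Prime 2) := ⟨Nat.prime_two⟩
  haveI : Group.IsNilpotent (S : Subgroup X) := S.isPGroup'.isNilpotent
  haveI : Group.IsSolvable (X ⧸ (S : Subgroup X)) := OddChar.oddSolvable _ (by
    rw [← index_eq_card, ← Nat.not_even_iff_odd, even_iff_two_dvd]
    exact S.not_dvd_index)
  exact Group.isSolvable_of_ker_le_range (S : Subgroup X).subtype (QuotientGroup.mk' (S : Subgroup X))
    (by rw [QuotientGroup.ker_mk', range_subtype])

/-- Centralisers modulo a central subgroup. -/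
theorem solvable_centralizer_quot {Z : Subgroup X} [Z.Normal] (hZ : Z ≤ center X) {y : X}
    (hy : Group.IsSolvable ↥(centralizer ({y} : Set X))) :
    Group.IsSolvable ↥(centralizer ({QuotientGroup.mk' Z y} : Set (X ⧸ Z))) := by
  set f := QuotientGroup.mk' Z
  set C := centralizer ({f y} : Set (X ⧸ Z)) with hC
  set K := C.comap f with hK
  have hmem : ∀ g ∈ K, g * y * g⁻¹ * y⁻¹ ∈ Z := fun g hg => by
    rw [← QuotientGroup.eq_one_iff]
    show f (g * y * g⁻¹ * y⁻¹) = 1
    rw [map_mul, map_mul, map_mul, mem_centralizer_singleton_iff.1 (show f g ∈ C from hg), map_inv, map_inv]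
    group
  have hcZ : ∀ a ∈ Z, ∀ x : X, x * a = a * x := fun a ha x => mem_center_iff.1 (hZ ha) x
  let φ : K →* Z :=
    { toFun := fun g => ⟨(g : X) * y * (g : X)⁻¹ * y⁻¹, hmem g g.2⟩
      map_one' := Subtype.ext (by simp)
      map_mul' := fun g h => Subtype.ext (by
        show (g : X) * h * y * ((g : X) * h)⁻¹ * y⁻¹ = (g : X) * y * (g : X)⁻¹ * y⁻¹ * ((h : X) * y * (h : X)⁻¹ * y⁻¹)
        calc (g : X) * h * y * ((g : X) * h)⁻¹ * y⁻¹
            = g * ((h : X) * y * (h : X)⁻¹ * y⁻¹) * (y * (g : X)⁻¹ * y⁻¹) := by group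
          _ = ((h : X) * y * (h : X)⁻¹ * y⁻¹) * g * (y * (g : X)⁻¹ * y⁻¹) := by rw [hcZ _ (hmem h h.2)]
          _ = ((h : X) * y * (h : X)⁻¹ * y⁻¹) * ((g : X) * y * (g : X)⁻¹ * y⁻¹) := by group
          _ = _ := by rw [hcZ _ (hmem g g.2)]) }
  haveI : IsMulCommutative Z := .of_setLike_mul_comm fun a ha b _ => (hcZ a ha b).symm
  haveI : Group.IsSolvable Z := Group.isSolvable_of_comm fun a b => mul_comm' a b
  haveI := hy
  haveI : Group.IsSolvable φ.ker := by
    let ι : φ.ker →* centralizer ({y} : Set X) :=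
      { toFun := fun g => ⟨((g : K) : X), mem_centralizer_singleton_iff.2
          (mul_inv_eq_iff_eq_mul.1 (mul_inv_eq_one.1 (congrArg Subtype.val (show φ g = 1 from g.2))))⟩
        map_one' := rfl
        map_mul' := fun _ _ => rfl }
    exact Group.isSolvable_of_isSolvable_injective (f := ι) fun a b e =>
      Subtype.ext (Subtype.ext (congrArg (fun z : centralizer ({y} : Set X) => (z : X)) e))
  haveI : Group.IsSolvable K :=
    Group.isSolvable_of_ker_le_range φ.ker.subtype φ (by rw [range_subtype])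
  refine Group.isSolvable_of_surjective (f := f.subgroupComap C) ?_
  rintro ⟨c, hc⟩
  obtain ⟨g, hg⟩ := QuotientGroup.mk'_surjective Z c
  exact ⟨⟨g, show f g ∈ C by rw [hg]; exact hc⟩, Subtype.ext hg⟩

/-- An abelian Sylow subgroup with central involutions is everything, without odd core. -/
theorem eq_top_of_central (hO : Cfsg.oddCore X = ⊥) (T : Sylow 2 X)
    (hT : ∀ a ∈ (T : Subgroup X), ∀ b ∈ (T : Subgroup X), a * b = b * a)
    (hsq : ∀ a ∈ (T : Subgroup X), a * a * (a * a) = 1)
    (hcen : ∀ t ∈ (T : Subgroup X), t * t = 1 → t ∈ center X) : (T : Subgroup X) = ⊤ := by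
  haveI : Fact (Nat.Prime 2) := ⟨Nat.prime_two⟩
  set N := normalizer ((T : Subgroup X) : Set X) with hN
  have hfix : N ≤ centralizer ((T : Subgroup X) : Set X) := by
    intro n hn a ha
    set d := a⁻¹ * (n * a * n⁻¹) with hd
    have hna : n * a * n⁻¹ ∈ (T : Subgroup X) := SEBrick.conj_mem_of hn ha
    have hdT : d ∈ (T : Subgroup X) := mul_mem (inv_mem ha) hna
    have hd2 : d * d = 1 := by
      have hc : Commute a⁻¹ (n * a * n⁻¹) := (show Commute a (n * a * n⁻¹) from hT a ha _ hna).inv_left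
      rw [← pow_two, hd, hc.mul_pow, pow_two, pow_two,
        show n * a * n⁻¹ * (n * a * n⁻¹) = n * (a * a) * n⁻¹ by group,
        mem_center_iff.1 (hcen (a * a) (mul_mem ha ha) (hsq a ha)) n]
      group
    have hdc : ∀ g : X, g * d = d * g := fun g => mem_center_iff.1 (hcen d hdT hd2) g
    have hk : ∀ k : ℕ, n ^ k * a * (n ^ k)⁻¹ = a * d ^ k := by
      intro k
      induction k with
      | zero => simp
      | succ k ih =>
        calc n ^ (k + 1) * a * (n ^ (k + 1))⁻¹ = n * (n ^ k * a * (n ^ k)⁻¹) * n⁻¹ := by rw [pow_succ']; group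
          _ = n * a * n⁻¹ * (n * d ^ k * n⁻¹) := by rw [ih]; group
          _ = _ := by
            rw [← conj_pow, hdc n, mul_inv_cancel_right, show n * a * n⁻¹ = a * d by rw [hd, mul_inv_cancel_left],
              pow_succ', mul_assoc]
    haveI : ((T : Subgroup X).subgroupOf N).Normal :=
      (normal_subgroupOf_iff_le_normalizer le_normalizer).2 le_rfl
    set m := ((T : Subgroup X).subgroupOf N).index with hm
    have hnm : n ^ m ∈ (T : Subgroup X) := by
      have := pow_index_mem ((T : Subgroup X).subgroupOf N) (⟨n, hn⟩ : N)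
      exact mem_subgroupOf.1 this
    have h1 : d ^ m = 1 := by
      have := hk m
      rw [hT _ hnm a ha, mul_inv_cancel_right] at this
      exact mul_eq_left.1 this.symm
    have hodd : Odd m := sylow_index_odd T
    have hd1 : d = 1 := orderOf_eq_one_iff.1 (Nat.eq_one_of_dvd_coprimes (Nat.coprime_two_left.2 hodd)
      (orderOf_dvd_of_pow_eq_one (by rw [pow_two, hd2])) (orderOf_dvd_of_pow_eq_one h1))
    rw [hd, inv_mul_eq_one] at hd1
    exact (eq_mul_inv_iff_mul_eq.1 hd1)
  set K := (MonoidHom.transferSylow T hfix).ker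
  have hcomp := MonoidHom.ker_transferSylow_isComplement' T hfix
  have hKodd : Odd (Nat.card K) := by
    rw [← Nat.not_even_iff_odd, even_iff_two_dvd]
    exact MonoidHom.not_dvd_card_ker_transferSylow T hfix
  have hK : K = ⊥ := le_bot_iff.1 (hO ▸ SEBrick.le_oddCore inferInstance hKodd)
  have := hcomp.card_mul
  rw [show (MonoidHom.transferSylow T hfix).ker = ⊥ from hK, card_bot, one_mul] at this
  exact eq_top_of_card_eq _ this

/-- A fixed square root, by averaging over the normaliser. -/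
theorem exists_fixed_root (T : Sylow 2 X) (hT : ∀ a ∈ (T : Subgroup X), ∀ b ∈ (T : Subgroup X), a * b = b * a)
    (hsq : ∀ a ∈ (T : Subgroup X), a * a * (a * a) = 1) {b : X} (hb : b ∈ (T : Subgroup X))
    (hb2 : b * b ∈ center X) :
    ∃ c ∈ (T : Subgroup X), (∀ n ∈ normalizer ((T : Subgroup X) : Set X), n * c * n⁻¹ = c) ∧ c * c = b * b := by
  classical
  set N := normalizer ((T : Subgroup X) : Set X) with hN
  letI : CommGroup (T : Subgroup X) :=
    { (inferInstance : Group (T : Subgroup X)) with mul_comm := fun x y => Subtype.ext (hT x x.2 y y.2) }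
  set T' := (T : Subgroup X).subgroupOf N with hT'
  letI : Fintype (N ⧸ T') := Fintype.ofFinite _
  let F : N ⧸ T' → (T : Subgroup X) := fun q => Quotient.liftOn' q
    (fun n => ⟨(n : X) * b * (n : X)⁻¹, SEBrick.conj_mem_of n.2 hb⟩) (by
      intro x y hxy
      rw [QuotientGroup.leftRel_apply, hT', mem_subgroupOf] at hxy
      apply Subtype.ext
      show (x : X) * b * (x : X)⁻¹ = (y : X) * b * (y : X)⁻¹
      have h : (x : X)⁻¹ * y * b = b * ((x : X)⁻¹ * y) := hT _ hxy b hb
      calc (x : X) * b * (x : X)⁻¹ = x * (b * ((x : X)⁻¹ * y)) * (y : X)⁻¹ := by group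
        _ = x * ((x : X)⁻¹ * y * b) * (y : X)⁻¹ := by rw [h]
        _ = y * b * (y : X)⁻¹ := by group)
  refine ⟨((∏ q, F q : (T : Subgroup X)) : X), SetLike.coe_mem _, fun n hn => ?_, ?_⟩
  · let cn : (T : Subgroup X) →* (T : Subgroup X) :=
      MonoidHom.mk' (fun t => ⟨n * t * n⁻¹, SEBrick.conj_mem_of hn t.2⟩) (fun x y => Subtype.ext (by
        simp [mul_assoc]))
    have h : cn (∏ q, F q) = ∏ q, F q := by
      rw [map_prod]
      refine Fintype.prod_equiv (MulAction.toPerm (⟨n, hn⟩ : N)) _ _ ?_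
      intro q
      induction q using QuotientGroup.induction_on with
      | _ m =>
        apply Subtype.ext
        show n * ((m : X) * b * (m : X)⁻¹) * n⁻¹ = (n * (m : X)) * b * (n * (m : X))⁻¹
        group
    exact congrArg Subtype.val h
  · have hF : ∀ q, F q * F q = (⟨b * b, mul_mem hb hb⟩ : (T : Subgroup X)) := by
      intro q
      induction q using QuotientGroup.induction_on with
      | _ m =>
        apply Subtype.ext
        show (m : X) * b * (m : X)⁻¹ * ((m : X) * b * (m : X)⁻¹) = b * b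
        rw [show (m : X) * b * (m : X)⁻¹ * ((m : X) * b * (m : X)⁻¹) = m * (b * b) * (m : X)⁻¹ by group,
          mem_center_iff.1 hb2 m, mul_inv_cancel_right]
    have hodd : Odd (Fintype.card (N ⧸ T')) := by
      rw [← Nat.card_eq_fintype_card, ← index_eq_card]
      exact sylow_index_odd T
    have h := Finset.prod_mul_distrib (s := Finset.univ) (f := F) (g := F)
    simp only [hF, Finset.prod_const, Finset.card_univ] at h
    obtain ⟨j, hj⟩ := hodd
    have h2 : (⟨b * b, mul_mem hb hb⟩ : (T : Subgroup X)) ^ 2 = 1 := Subtype.ext (by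
      show (b * b) ^ 2 = 1
      rw [pow_two, hsq b hb])
    rw [hj, pow_succ, pow_mul, h2, one_pow, one_mul] at h
    exact congrArg Subtype.val h.symm

variable {F : Type} [Field F] [Fintype F]

/-- In `PSL(2, 2 ^ n)` the 2-elements have square one. -/
theorem psl_two_sq [CharP F 2] (g : Matrix.ProjectiveSpecialLinearGroup (Fin 2) F) {k : ℕ}
    (hg : g ^ 2 ^ k = 1) : g * g = 1 := by
  haveI : Fact (Nat.Prime 2) := ⟨Nat.prime_two⟩
  obtain ⟨M, rfl⟩ := QuotientGroup.mk'_surjective _ g
  have hM : M ^ 2 ^ k ∈ center (Matrix.SpecialLinearGroup (Fin 2) F) := by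
    rw [← QuotientGroup.eq_one_iff]
    rw [← map_pow] at hg
    exact hg
  obtain ⟨r, hr, hrM⟩ := Matrix.SpecialLinearGroup.mem_center_iff.1 hM
  have hr1 : r = 1 := by
    rw [Fintype.card_fin, sq_eq_one_iff, CharTwo.neg_eq, or_self] at hr
    exact hr
  rw [hr1, map_one] at hrM
  set N : Matrix (Fin 2) (Fin 2) F := (M : Matrix (Fin 2) (Fin 2) F) - 1 with hN
  have hnil : IsNilpotent N := ⟨2 ^ k, by
    rw [hN, sub_pow_char_pow_of_commute (p := 2) (h := Commute.one_right _), one_pow, ← Matrix.SpecialLinearGroup.coe_pow, ← hrM,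
      sub_self]⟩
  have hcp : N.charpoly = Polynomial.X ^ 2 := by
    have := (Matrix.isNilpotent_charpoly_sub_pow_of_isNilpotent hnil).eq_zero
    rw [Fintype.card_fin, sub_eq_zero] at this
    exact this
  have hN2 : N * N = 0 := by
    have := N.aeval_self_charpoly
    rwa [hcp, map_pow, Polynomial.aeval_X, pow_two] at this
  have hMM : M * M = 1 := Subtype.ext (by
    show (M : Matrix (Fin 2) (Fin 2) F) * M = 1
    rw [show (M : Matrix (Fin 2) (Fin 2) F) = N + 1 by rw [hN, sub_add_cancel]]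
    rw [add_mul, mul_add, hN2, mul_one, one_mul, zero_add, CharTwo.add_cancel_left])
  rw [← map_mul, hMM, map_one]

/-- A group with a normal `PSL(2, q)` of trivial centraliser has elementary abelian Sylow 2-subgroups, if abelian. -/
theorem sq_one_of_psl {Y : Type u} [Group Y] [Finite Y] (hO : Cfsg.oddCore Y = ⊥) (T : Sylow 2 Y)
    (hT : ∀ a ∈ (T : Subgroup Y), ∀ b ∈ (T : Subgroup Y), a * b = b * a) (hF : AbelInv.GoodField F) {L : Subgroup Y}
    [L.Normal] (e : L ≃* Matrix.ProjectiveSpecialLinearGroup (Fin 2) F) (hC : centralizer (L : Set Y) = ⊥) :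
    ∀ a ∈ (T : Subgroup Y), a * a = 1 := by
  haveI : Fact (Nat.Prime 2) := ⟨Nat.prime_two⟩
  obtain ⟨TL, hTL⟩ := PBasic.exists_sylow_subgroupOf T L
  have hTLc : IsMulCommutative (TL : Subgroup L) := .of_setLike_mul_comm fun a ha b hb => by
    rw [hTL, mem_subgroupOf] at ha hb
    exact Subtype.ext (hT _ ha _ hb)
  have hsqL : ∀ l ∈ (TL : Subgroup L), l * l = 1 := by
    intro l hl
    obtain ⟨k, hk⟩ := TL.isPGroup' ⟨l, hl⟩
    have hk' : l ^ 2 ^ k = 1 := congrArg Subtype.val hk
    apply e.injective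
    rw [map_mul, map_one]
    rcases hF with ⟨h8, h5⟩ | ⟨n, hn, hcard⟩
    · have hodd : Odd (Fintype.card F) := Nat.odd_iff.2 (by omega)
      obtain ⟨V, hVe⟩ : ∃ V : Sylow 2 (Matrix.ProjectiveSpecialLinearGroup (Fin 2) F),
          (V : Subgroup (Matrix.ProjectiveSpecialLinearGroup (Fin 2) F)) = (TL : Subgroup L).map e.toMonoidHom :=
        ⟨_, Sylow.coe_mapSurjective (f := e.toMonoidHom) e.surjective TL⟩
      have hV : IsMulCommutative (V : Subgroup (Matrix.ProjectiveSpecialLinearGroup (Fin 2) F)) := by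
        rw [hVe]
        exact .of_setLike_mul_comm (by
          rintro _ ⟨x, hx, rfl⟩ _ ⟨y, hy, rfl⟩
          rw [← map_mul, ← map_mul]
          exact congrArg e.toMonoidHom (congrArg Subtype.val (hTLc.is_comm.comm ⟨x, hx⟩ ⟨y, hy⟩)))
      exact (JankoRee.psl2_sylow hodd (by omega) V hV).2.1 (e l)
        (by rw [hVe]; exact ⟨l, hl, rfl⟩)
    · haveI : CharP F 2 := charP_of_card_eq_prime_pow (f := n) hcard
      exact psl_two_sq (e l) (k := k) (by rw [← map_pow, hk', map_one])
  have hLc : Subgroup.center L = ⊥ := (eq_bot_iff_forall _).2 fun z hz => Subtype.ext (mem_bot.1 (hC ▸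
    mem_centralizer_iff.2 fun l hl => congrArg Subtype.val (mem_center_iff.1 hz ⟨l, hl⟩)))
  have hLO : Cfsg.pPrimeCore 2 L = ⊥ := by
    have h1 : SESolv.oc L ≤ Cfsg.oddCore Y := SEBrick.le_oddCore (normalizer_eq_top_iff.1 (top_le_iff.1
      ((normalizer_eq_top_iff.2 inferInstance).ge.trans (SESolv.normalizer_le_oc L)))) (SESolv.oc_odd L)
    rw [hO, le_bot_iff] at h1
    exact (Subgroup.map_eq_bot_iff_of_injective _ L.subtype_injective).1 h1
  intro a ha
  set α : MulAut L := MulAut.conjNormal a with hα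
  have h2 : ∃ j : ℕ, orderOf α = 2 ^ j := by
    obtain ⟨k, hk⟩ := T.isPGroup' ⟨a, ha⟩
    have hak : a ^ 2 ^ k = 1 := congrArg Subtype.val hk
    obtain ⟨j, -, hj⟩ := (Nat.dvd_prime_pow Nat.prime_two).1
      (orderOf_dvd_of_pow_eq_one (show α ^ 2 ^ k = 1 by rw [hα, ← map_pow, hak, map_one]))
    exact ⟨j, hj⟩
  obtain ⟨l, hl⟩ := S4593.result hLc hLO TL hTLc α h2 fun x hx => by
    rw [hTL, mem_subgroupOf] at hx
    apply Subtype.ext
    rw [hα, MulAut.conjNormal_apply, hT a ha _ hx, mul_inv_cancel_right]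
  have hla : (l : Y)⁻¹ * a = 1 := mem_bot.1 (hC ▸ mem_centralizer_iff.2 fun x hx => by
    have := congrArg (fun z : L => (z : Y)) (hl ⟨x, hx⟩)
    simp only [hα, MulAut.conjNormal_apply, Subgroup.coe_mul, Subgroup.coe_inv] at this
    calc x * ((l : Y)⁻¹ * a) = (l : Y)⁻¹ * ((l : Y) * x * (l : Y)⁻¹) * a := by group
      _ = (l : Y)⁻¹ * (a * x * a⁻¹) * a := by rw [this]
      _ = _ := by group)
  have hal : a = l := (inv_mul_eq_one.1 hla).symm
  have := hsqL ⟨a, hal ▸ l.2⟩ (by rw [hTL, mem_subgroupOf]; exact ha)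
  exact congrArg Subtype.val this

/-- Solvability. -/
theorem solvable_of_abelian (hO : Cfsg.oddCore X = ⊥) (T : Sylow 2 X)
    (hT : ∀ a ∈ (T : Subgroup X), ∀ b ∈ (T : Subgroup X), a * b = b * a)
    (hsq : ∀ a ∈ (T : Subgroup X), a * a * (a * a) = 1)
    (hroot : ∀ z ∈ (T : Subgroup X), z * z = 1 → ∃ a ∈ (T : Subgroup X), a * a = z)
    (hC : ∀ t : X, orderOf t = 2 → t ∉ center X → Group.IsSolvable ↥(centralizer ({t} : Set X))) :
    Group.IsSolvable X := by
  haveI : Fact (Nat.Prime 2) := ⟨Nat.prime_two⟩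
  by_cases hcen : ∀ t ∈ (T : Subgroup X), t * t = 1 → t ∈ center X
  · exact solvable_of_sylow_normal T (by rw [eq_top_of_central hO T hT hsq hcen]; infer_instance)
  push Not at hcen
  obtain ⟨s₀, hs₀T, hs₀2, hs₀⟩ := hcen
  haveI hTc : IsMulCommutative (T : Subgroup X) := .of_setLike_mul_comm fun a ha b hb => hT a ha b hb
  set Z := (T : Subgroup X) ⊓ center X with hZ
  have hZc : Z ≤ center X := inf_le_right
  haveI : Z.Normal := ⟨fun z hz g => by rw [mem_center_iff.1 (hZc hz) g, mul_inv_cancel_right]; exact hz⟩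
  set f := QuotientGroup.mk' Z with hf
  have hfs : Function.Surjective f := QuotientGroup.mk'_surjective Z
  set T' : Sylow 2 (X ⧸ Z) := T.mapSurjective hfs with hT'
  have hT'c : IsMulCommutative (T' : Subgroup (X ⧸ Z)) := by
    rw [hT', Sylow.coe_mapSurjective]
    exact .of_setLike_mul_comm (by
      rintro _ ⟨x, hx, rfl⟩ _ ⟨y, hy, rfl⟩
      rw [← map_mul, ← map_mul, hT x hx y hy])
  have hC' : ∀ w : X ⧸ Z, orderOf w = 2 → Group.IsSolvable ↥(centralizer ({w} : Set (X ⧸ Z))) := by
    intro w hw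
    obtain ⟨R, hR⟩ := (IsPGroup.of_card (n := 1) (by rw [Nat.card_zpowers, hw, pow_one]) :
      IsPGroup 2 (zpowers w)).exists_le_sylow
    obtain ⟨k, hk⟩ := MulAction.exists_smul_eq (X ⧸ Z) T' R
    have hwR : w ∈ (R : Subgroup (X ⧸ Z)) := hR (mem_zpowers w)
    rw [← hk, Sylow.coe_subgroup_smul, hT', Sylow.coe_mapSurjective] at hwR
    obtain ⟨_, ⟨t, ht, rfl⟩, htw⟩ := hwR
    obtain ⟨g, rfl⟩ := hfs k
    have hw' : w = f (g * t * g⁻¹) := by
      rw [← htw, map_mul, map_mul, map_inv]
      rfl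
    have hft1 : f t ≠ 1 := fun e => by
      rw [hw', map_mul, map_mul, e, mul_one, map_inv, mul_inv_cancel, orderOf_one] at hw
      omega
    have htt : t * t ∈ Z := by
      rw [← QuotientGroup.eq_one_iff]
      show f (t * t) = 1
      have h2 := pow_orderOf_eq_one w
      rw [hw, pow_two, hw', ← map_mul, show g * t * g⁻¹ * (g * t * g⁻¹) = g * (t * t) * g⁻¹ by group, map_mul,
        map_mul, map_inv, conj_eq_one_iff] at h2
      exact h2
    obtain ⟨c, hcT, hcfix, hc⟩ := exists_fixed_root T hT hsq ht htt.2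
    have hcZ : c ∈ Z := ⟨hcT, AbelianSylowAut.mem_center_of_fixed X hO T hTc c hcT hcfix⟩
    set s := t * c⁻¹ with hs
    have hs1 : s ≠ 1 := fun e => hft1 ((QuotientGroup.eq_one_iff t).2 (by
      rw [mul_inv_eq_one.1 e]; exact hcZ))
    have hs2 : s * s = 1 := by
      have hcomm : Commute t c⁻¹ := (show Commute t c from hT t ht c hcT).inv_right
      rw [← pow_two, hs, hcomm.mul_pow, inv_pow, pow_two, pow_two, hc, mul_inv_cancel]
    have hsc : s ∉ center X := fun e => hft1 ((QuotientGroup.eq_one_iff t).2 (by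
      rw [show t = s * c by rw [hs, inv_mul_cancel_right]]
      exact Z.mul_mem ⟨(T : Subgroup X).mul_mem ht ((T : Subgroup X).inv_mem hcT), e⟩ hcZ))
    have hws : w = f (g * s * g⁻¹) := by
      have hfs' : f s = f t := by
        rw [hs, map_mul, map_inv f c, show f c = 1 from (QuotientGroup.eq_one_iff c).2 hcZ, inv_one, mul_one]
      rw [hw', map_mul, map_mul, map_mul, map_mul, hfs']
    rw [hws]
    refine solvable_centralizer_quot hZc (hC _ (by rw [Invol.order_conj]; exact Invol.order_two_of_sq hs2 hs1) fun e => hsc ?_)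
    have := (inferInstance : (center X).Normal).conj_mem _ e g⁻¹
    simpa [mul_assoc] using this
  rcases S3188.result T' hT'c hC' with hsol | ⟨F, iF, iT, hF, L, hLn, ⟨e⟩, hLc⟩
  · haveI := hsol
    haveI : IsMulCommutative Z := .of_setLike_mul_comm fun a ha b _ => (mem_center_iff.1 (hZc ha) b).symm
    haveI : Group.IsSolvable Z := Group.isSolvable_of_comm fun a b => mul_comm' a b
    exact Group.isSolvable_of_ker_le_range Z.subtype f (by rw [hf, QuotientGroup.ker_mk', range_subtype])
  exfalso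
  haveI := hLn
  haveI := FittingCores.pPrimeCore_normal (G := X ⧸ Z) 2
  set p := QuotientGroup.mk' (Cfsg.oddCore (X ⧸ Z)) with hp
  set T'' := T'.mapSurjective (QuotientGroup.mk'_surjective (Cfsg.oddCore (X ⧸ Z))) with hT''
  have hmem : ∀ a ∈ (T : Subgroup X), p (f a) ∈ (T'' : Subgroup ((X ⧸ Z) ⧸ Cfsg.oddCore (X ⧸ Z))) := fun a ha => by
    rw [hT'', Sylow.coe_mapSurjective]
    exact mem_map_of_mem p (by rw [hT', Sylow.coe_mapSurjective]; exact mem_map_of_mem f ha)
  have hsq1 := sq_one_of_psl (FittingCores.pPrimeCore_quotient_eq_bot 2 _ rfl) T'' (by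
    rw [hT'', Sylow.coe_mapSurjective]
    rintro _ ⟨x, hx, rfl⟩ _ ⟨y, hy, rfl⟩
    rw [← map_mul, ← map_mul]
    exact congrArg p (congrArg Subtype.val (hT'c.is_comm.comm ⟨x, hx⟩ ⟨y, hy⟩))) hF e hLc
  obtain ⟨a, ha, has⟩ := hroot s₀ hs₀T hs₀2
  have h1 : f (a * a) ∈ Cfsg.oddCore (X ⧸ Z) := by
    rw [← QuotientGroup.eq_one_iff]
    have := hsq1 _ (hmem a ha)
    rwa [← map_mul, ← map_mul] at this
  have h2 : f (a * a) = 1 := SESolv.eq_one_of_two_of_odd T'.isPGroup' SEBrick.oddCore_odd
    (by rw [hT', Sylow.coe_mapSurjective]; exact mem_map_of_mem f (mul_mem ha ha)) h1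
  rw [has] at h2
  exact hs₀ ((QuotientGroup.eq_one_iff s₀).1 h2).2

end Cfsg.Agent.UType
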