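import Cfsg.Agent.Lib.SESolv.Shape
import Cfsg.Agent.Lib.SEBrick.Basic
import Cfsg.Agent.Lib.SU3Sylow.Embed
import Cfsg.Prelude.Def_Classical

/-!
Sylow 2-subgroups of unitary type: order `q ^ 3`, `q` elements of square one, all central, and abelian
centralisers of the elements of order four.
-/

set_option autoImplicit false
set_option linter.style.haveILetI false
set_option linter.unusedSectionVars false

namespace Cfsg.Agent.UType

open Subgroup

universe u v

/-- The Sylow 2-subgroups are of unitary type for `q`. -/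
structure UT (G : Type u) [Group G] (q : ℕ) : Prop where
  shape : SESolv.Shape G
  eight : 8 ≤ q
  card : ∀ S : Sylow 2 G, Nat.card S = q ^ 3
  invol : ∀ S : Sylow 2 G, Nat.card {x : G // x ∈ (S : Subgroup G) ∧ x * x = 1} = q

variable {G : Type u} [Group G] [Finite G] {q : ℕ}

section
variable (h : UT G q) (S : Sylow 2 G)
include h

theorem UT.cen {t x : G} (ht : t ∈ (S : Subgroup G)) (ht1 : t * t = 1) (hx : x ∈ (S : Subgroup G)) :
    t * x = x * t :=
  (h.shape _ S.isPGroup').2.1 t ht ht1 x hx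

/-- The elements of square one of a Sylow subgroup. -/
def UT.omega : Subgroup G where
  carrier := {x | x ∈ (S : Subgroup G) ∧ x * x = 1}
  one_mem' := ⟨one_mem _, one_mul 1⟩
  mul_mem' := fun {x y} hx hy => ⟨mul_mem hx.1 hy.1, by
    rw [mul_assoc, ← mul_assoc y x y, ← h.cen S hx.1 hx.2 hy.1, mul_assoc x y y, hy.2, mul_one, hx.2]⟩
  inv_mem' := fun {x} hx => ⟨inv_mem hx.1, by rw [← mul_inv_rev, hx.2, inv_one]⟩

theorem UT.omega_le : h.omega S ≤ (S : Subgroup G) := fun _ hx => hx.1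

theorem UT.card_omega : Nat.card (h.omega S) = q := h.invol S

theorem UT.omega_comm {z x : G} (hz : z ∈ h.omega S) (hx : x ∈ (S : Subgroup G)) : z * x = x * z :=
  h.cen S hz.1 hz.2 hx

theorem UT.omega_inv {z : G} (hz : z ∈ h.omega S) : z⁻¹ = z := inv_eq_of_mul_eq_one_right hz.2

theorem UT.sq_mem {x : G} (hx : x ∈ (S : Subgroup G)) : x * x ∈ h.omega S :=
  ⟨mul_mem hx hx, (h.shape _ S.isPGroup').1 x hx⟩

theorem UT.comm_mem {x y : G} (hx : x ∈ (S : Subgroup G)) (hy : y ∈ (S : Subgroup G)) :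
    x * y * x⁻¹ * y⁻¹ ∈ h.omega S := by
  rw [show x * y * x⁻¹ * y⁻¹ = x * x * (x⁻¹ * y * (x⁻¹ * y)) * (y * y)⁻¹ by group]
  exact mul_mem (mul_mem (h.sq_mem S hx) (h.sq_mem S (mul_mem (inv_mem hx) hy))) (inv_mem (h.sq_mem S hy))

theorem UT.omega_normal : (S : Subgroup G) ≤ normalizer (h.omega S : Set G) :=
  SEBrick.le_normalizer_of fun s hs x hx => by
    rw [← h.omega_comm S hx hs, mul_inv_cancel_right]
    exact hx

theorem UT.omega_ea : Cfsg.IsElementaryAbelian 2 (h.omega S) :=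
  ⟨.of_setLike_mul_comm fun _ hx _ hy => h.omega_comm S hx hy.1, fun x hx => by rw [pow_two]; exact hx.2⟩

theorem UT.four_omega : SEBrick.IsFour (h.omega S) :=
  ⟨h.omega_ea S, by rw [h.card_omega]; have := h.eight; omega⟩

/-- The centraliser of an element of order four in the Sylow subgroup has order `q ^ 2`; commutators with the
element and squares in the centraliser cover the elements of square one. -/
theorem UT.order_four {f : G} (hf : f ∈ (S : Subgroup G)) (hf2 : f * f ≠ 1) :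
    Nat.card ↥((S : Subgroup G) ⊓ centralizer ({f} : Set G)) = q ^ 2 ∧
      (∀ z ∈ h.omega S, ∃ s ∈ (S : Subgroup G), f * s * f⁻¹ * s⁻¹ = z) ∧
      ∀ z ∈ h.omega S, ∃ a ∈ (S : Subgroup G), a * f = f * a ∧ a * a = z := by
  classical
  have hq : 0 < q := by have := h.eight; omega
  set A := (S : Subgroup G) ⊓ centralizer ({f} : Set G) with hA
  have hcf : ∀ a ∈ A, f * a = a * f := fun a ha => (mem_centralizer_singleton_iff.1 ha.2).symm
  have hcomm : ∀ a ∈ A, ∀ b ∈ A, a * b = b * a := fun a ha b hb =>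
    (h.shape _ S.isPGroup').2.2 f hf hf2 a ha.1 b hb.1 (hcf a ha) (hcf b hb)
  let sq : A →* h.omega S :=
    { toFun := fun a => ⟨(a : G) * a, h.sq_mem S a.2.1⟩
      map_one' := Subtype.ext (one_mul 1)
      map_mul' := fun a b => Subtype.ext (by
        show (a : G) * b * ((a : G) * b) = (a : G) * a * ((b : G) * b)
        rw [mul_assoc, ← mul_assoc (b : G) a b, hcomm b b.2 a a.2]
        group) }
  have hker : Nat.card sq.ker = q := by
    refine Eq.trans ?_ (h.card_omega S)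
    refine Nat.card_congr ⟨fun a => ⟨((a : A) : G), a.1.2.1, congrArg Subtype.val (show sq a = 1 from a.2)⟩,
      fun z => ⟨⟨z, z.2.1, mem_centralizer_singleton_iff.2 (h.omega_comm S z.2 hf)⟩, Subtype.ext z.2.2⟩,
      fun a => rfl, fun z => rfl⟩
  have hA1 : Nat.card A = Nat.card (A ⧸ sq.ker) * q := by
    exact (Subgroup.card_eq_card_quotient_mul_card_subgroup sq.ker).trans (congrArg _ hker)
  have hqr : Nat.card (A ⧸ sq.ker) = Nat.card sq.range :=
    Nat.card_congr (QuotientGroup.quotientKerEquivRange sq).toEquiv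
  have hr : Nat.card sq.range ≤ q := by
    refine le_of_le_of_eq (Nat.card_le_card_of_injective (fun z => (z : h.omega S)) Subtype.val_injective) ?_
    exact h.card_omega S
  -- the commutator map
  set A' := A.subgroupOf (S : Subgroup G) with hA'
  have hA'c : Nat.card A' = Nat.card A := Nat.card_congr (subgroupOfEquivOfLe inf_le_left).toEquiv
  let c : (S : Subgroup G) ⧸ A' → h.omega S := fun x =>
    Quotient.liftOn' x (fun s => ⟨f * s * f⁻¹ * (s : G)⁻¹, h.comm_mem S hf s.2⟩) (fun s t hst => by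
      rw [QuotientGroup.leftRel_apply, hA', mem_subgroupOf] at hst
      have h1 := hcf _ hst
      apply Subtype.ext
      show f * (s : G) * f⁻¹ * (s : G)⁻¹ = f * (t : G) * f⁻¹ * (t : G)⁻¹
      change f * ((s : G)⁻¹ * t) = (s : G)⁻¹ * t * f at h1
      calc f * (s : G) * f⁻¹ * (s : G)⁻¹ = f * s * ((s : G)⁻¹ * t) * ((s : G)⁻¹ * t)⁻¹ * f⁻¹ * (s : G)⁻¹ := by group
        _ = f * t * ((s : G)⁻¹ * t)⁻¹ * f⁻¹ * (s : G)⁻¹ := by group
        _ = f * t * (f * ((s : G)⁻¹ * t))⁻¹ * (s : G)⁻¹ := by group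
        _ = f * t * (((s : G)⁻¹ * t) * f)⁻¹ * (s : G)⁻¹ := by rw [h1]
        _ = _ := by group)
  have hcinj : Function.Injective c := by
    intro x y hxy
    induction x using QuotientGroup.induction_on with
    | _ s =>
      induction y using QuotientGroup.induction_on with
      | _ t =>
        have e : f * (s : G) * f⁻¹ * (s : G)⁻¹ = f * (t : G) * f⁻¹ * (t : G)⁻¹ := congrArg Subtype.val hxy
        refine QuotientGroup.eq.2 (mem_subgroupOf.2 ⟨(S : Subgroup G).mul_mem ((S : Subgroup G).inv_mem s.2) t.2,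
          mem_centralizer_singleton_iff.2 ?_⟩)
        have e' : (s : G) * f⁻¹ * (s : G)⁻¹ = (t : G) * f⁻¹ * (t : G)⁻¹ := by
          have := congrArg (f⁻¹ * ·) e
          simpa [mul_assoc] using this
        show (s : G)⁻¹ * t * f = f * ((s : G)⁻¹ * t)
        calc (s : G)⁻¹ * t * f = (s : G)⁻¹ * ((t : G) * f⁻¹ * (t : G)⁻¹)⁻¹ * t := by group
          _ = (s : G)⁻¹ * ((s : G) * f⁻¹ * (s : G)⁻¹)⁻¹ * t := by rw [e']
          _ = _ := by group
  have hi : Nat.card ((S : Subgroup G) ⧸ A') ≤ q :=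
    (Nat.card_le_card_of_injective c hcinj).trans (h.card_omega S).le
  have hS : q ^ 3 = Nat.card ((S : Subgroup G) ⧸ A') * Nat.card A := by
    rw [← hA'c, ← h.card S]; exact Subgroup.card_eq_card_quotient_mul_card_subgroup A'
  have hA2 : Nat.card A = q ^ 2 := by
    refine le_antisymm ?_ ?_
    · rw [hA1, hqr, pow_two]; exact Nat.mul_le_mul_right q hr
    · refine Nat.le_of_mul_le_mul_left (?_ : q * q ^ 2 ≤ q * Nat.card A) hq
      calc q * q ^ 2 = q ^ 3 := by ring
        _ ≤ q * Nat.card A := hS ▸ Nat.mul_le_mul_right _ hi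
  refine ⟨hA2, fun z hz => ?_, fun z hz => ?_⟩
  · have hcard : Nat.card ((S : Subgroup G) ⧸ A') = Nat.card (h.omega S) := by
      rw [h.card_omega, ← Nat.mul_left_inj (show q ^ 2 ≠ 0 by positivity)]
      conv_lhs => rw [← hA2, ← hS]
      ring
    obtain ⟨x, hx⟩ := ((Nat.bijective_iff_injective_and_card c).2 ⟨hcinj, hcard⟩).2 ⟨z, hz⟩
    induction x using QuotientGroup.induction_on with
    | _ s => exact ⟨s, s.2, congrArg Subtype.val hx⟩
  · have hrange : sq.range = ⊤ := by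
      refine Subgroup.eq_top_of_card_eq _ ?_
      rw [h.card_omega, ← hqr, ← Nat.mul_left_inj hq.ne', ← hA1, hA2, pow_two]
    obtain ⟨a, ha⟩ : (⟨z, hz⟩ : h.omega S) ∈ sq.range := hrange ▸ mem_top _
    exact ⟨a, a.2.1, (hcf a a.2).symm, congrArg Subtype.val ha⟩

theorem UT.exists_four : ∃ f ∈ (S : Subgroup G), f * f ≠ 1 := by
  by_contra! hall
  have hle : (S : Subgroup G) ≤ h.omega S := fun x hx => ⟨hx, hall x hx⟩
  have := card_le_of_le hle
  rw [h.card S, h.card_omega] at this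
  have := h.eight
  nlinarith [Nat.mul_le_mul this this]

theorem UT.sq_surj {z : G} (hz : z ∈ h.omega S) : ∃ a ∈ (S : Subgroup G), a * a = z := by
  obtain ⟨f, hf, hf2⟩ := h.exists_four S
  obtain ⟨a, ha, -, e⟩ := (h.order_four S hf hf2).2.2 z hz
  exact ⟨a, ha, e⟩

end

/-- A subgroup containing a Sylow subgroup inherits the type. -/
theorem UT.sub (h : UT G q) {K : Subgroup G} {S : Sylow 2 G} (hSK : (S : Subgroup G) ≤ K) : UT K q := by
  haveI : Fact (Nat.Prime 2) := ⟨Nat.prime_two⟩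
  have key : ∀ P : Sylow 2 K, ∃ P' : Sylow 2 G, (P' : Subgroup G) = (P : Subgroup K).map K.subtype := by
    intro P
    have hc : Nat.card ((P : Subgroup K).map K.subtype) = Nat.card S := by
      rw [card_map_of_injective K.subtype_injective, Nat.card_congr (Sylow.equiv P (S.subtype hSK)).toEquiv]
      exact Nat.card_congr (subgroupOfEquivOfLe hSK).toEquiv
    refine ⟨Sylow.ofCard ((P : Subgroup K).map K.subtype) ?_, rfl⟩
    rw [hc, S.card_eq_multiplicity]
  refine ⟨h.shape.of_injective K.subtype K.subtype_injective, h.eight, fun P => ?_, fun P => ?_⟩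
  · obtain ⟨P', hP'⟩ := key P
    rw [← h.card P']
    exact ((card_map_of_injective (K := (P : Subgroup K)) K.subtype_injective).symm.trans (congrArg (fun T : Subgroup G => Nat.card T) hP'.symm))
  · obtain ⟨P', hP'⟩ := key P
    rw [← h.invol P']
    refine Nat.card_congr (Equiv.ofBijective
      (fun x => ⟨((x : K) : G), hP' ▸ mem_map_of_mem K.subtype x.2.1, congrArg Subtype.val x.2.2⟩)
      ⟨fun x y e => Subtype.ext (Subtype.ext (congrArg (fun z : {a : G // _} => (z : G)) e)), fun x => ?_⟩)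
    obtain ⟨y, hy, e⟩ : (x : G) ∈ (P : Subgroup K).map K.subtype := hP' ▸ x.2.1
    refine ⟨⟨y, hy, Subtype.ext ?_⟩, Subtype.ext e⟩
    show ((y : G)) * y = 1
    rw [show (y : G) = x from e]
    exact x.2.2

/-- A quotient by an odd normal subgroup inherits the type. -/
theorem UT.quot (h : UT G q) {K : Type v} [Group K] [Finite K] (f : G →* K) (hf : Function.Surjective f)
    (hk : Odd (Nat.card f.ker)) : UT K q := by
  haveI : Fact (Nat.Prime 2) := ⟨Nat.prime_two⟩
  have key : ∀ P : Sylow 2 K, ∃ S : Sylow 2 G, (S : Subgroup G).map f = P ∧ Set.InjOn f (S : Subgroup G) := by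
    intro P
    obtain ⟨S, hS⟩ := Sylow.mapSurjective_surjective hf 2 P
    exact ⟨S, by rw [← Sylow.coe_mapSurjective hf, hS], SESolv.injOn_of_two f hk S.isPGroup'⟩
  refine ⟨h.shape.of_surjective_odd f hf hk, h.eight, fun P => ?_, fun P => ?_⟩
  · obtain ⟨S, hS, hinj⟩ := key P
    rw [← h.card S]
    have : Nat.card ((S : Subgroup G).map f) = Nat.card S := by
      rw [← SetLike.coe_sort_coe, coe_map, Nat.card_image_of_injOn hinj]
      rfl
    exact ((congrArg (fun T : Subgroup K => Nat.card T) hS).symm.trans this)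
  · obtain ⟨S, hS, hinj⟩ := key P
    rw [← h.invol S]
    refine (Nat.card_congr (Equiv.ofBijective
      (fun x => ⟨f x.1, hS.le (mem_map_of_mem f x.2.1), by rw [← map_mul, x.2.2, map_one]⟩)
      ⟨fun x y e => Subtype.ext (hinj x.2.1 y.2.1 (congrArg Subtype.val e)), fun x => ?_⟩)).symm
    obtain ⟨y, hy, e⟩ : (x : K) ∈ (S : Subgroup G).map f := hS.ge x.2.1
    refine ⟨⟨y, hy, hinj (mul_mem hy hy) (one_mem _) ?_⟩, Subtype.ext e⟩
    rw [map_mul, e, map_one]
    exact x.2.2

open SU3Sylow in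
/-- The groups with the Sylow 2-subgroups of the unitary groups in dimension three. -/
theorem UT.of_psu {n : ℕ} (hn : 3 ≤ n) {F : Type v} [Field F] [Fintype F] (hF : Fintype.card F = (2 ^ n) ^ 2)
    (S : Sylow 2 G) (P : Sylow 2 (Cfsg.PSU 3 F (2 ^ n)))
    (e : (S : Subgroup G) ≃* (P : Subgroup (Cfsg.PSU 3 F (2 ^ n)))) : UT G (2 ^ n) := by
  haveI : Fact (Nat.Prime 2) := ⟨Nat.prime_two⟩
  obtain ⟨_, σ, _, hne, hσ, hq⟩ := setup (by omega) hF
  obtain ⟨e'⟩ := sylow_PSU_equiv hne (by omega) hσ hq P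
  have key : ∀ R : Sylow 2 G, Nonempty ((R : Subgroup G) ≃* Heis σ) :=
    fun R => ⟨(Sylow.equiv R S).trans (e.trans e')⟩
  have hab : ∀ f x y : Heis σ, f * f ≠ 1 → f * x = x * f → f * y = y * f → x * y = y * x := by
    intro f x y hf hx hy
    rw [Heis.comm_iff] at hx hy ⊢
    have hfa : f.a ≠ 0 := fun h0 => hf ((Heis.mul_self_eq_one_iff f).2 h0)
    refine mul_left_cancel₀ (mul_ne_zero ((map_ne_zero σ).2 hfa) hfa) ?_
    linear_combination (σ x.a * f.a) * hy - (σ y.a * f.a) * hx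
  refine ⟨fun T hT => ?_, ?_, fun R => ?_, fun R => ?_⟩
  · obtain ⟨R, hR⟩ := hT.exists_le_sylow
    obtain ⟨ψ⟩ := key R
    have hm : ∀ a b : G, ∀ (ha : a ∈ T) (hb : b ∈ T), a * b = b * a ↔
        ψ ⟨a, hR ha⟩ * ψ ⟨b, hR hb⟩ = ψ ⟨b, hR hb⟩ * ψ ⟨a, hR ha⟩ := fun a b ha hb => by
      rw [← map_mul, ← map_mul, ψ.injective.eq_iff, Subtype.ext_iff]
      rfl
    have hsq : ∀ a : G, ∀ ha : a ∈ T, a * a = 1 ↔ ψ ⟨a, hR ha⟩ * ψ ⟨a, hR ha⟩ = 1 := fun a ha => by
      rw [← map_mul, MulEquiv.map_eq_one_iff, Subtype.ext_iff]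
      rfl
    refine ⟨fun x hx => (hsq _ (mul_mem hx hx)).2 ?_, fun t ht ht1 x hx => (hm t x ht hx).2 ?_,
      fun f hf hf2 x hx y hy h1 h2 => (hm x y hx hy).2
        (hab _ _ _ (fun h0 => hf2 ((hsq f hf).2 h0)) ((hm f x hf hx).1 h1) ((hm f y hf hy).1 h2))⟩
    · rw [show (⟨x * x, hR (mul_mem hx hx)⟩ : (R : Subgroup G)) = ⟨x, hR hx⟩ * ⟨x, hR hx⟩ from rfl, map_mul,
        Heis.mul_self_eq_one_iff, Heis.mul_a, CharTwo.add_self_eq_zero]
    · rw [Heis.comm_iff, (Heis.mul_self_eq_one_iff _).1 ((hsq t ht).1 ht1), map_zero, zero_mul, mul_zero]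
  · calc 8 = 2 ^ 3 := rfl
      _ ≤ 2 ^ n := Nat.pow_le_pow_right (by norm_num) hn
  · obtain ⟨ψ⟩ := key R
    rw [Nat.card_congr ψ.toEquiv, Heis.card_eq hne hq]
  · obtain ⟨ψ⟩ := key R
    rw [← Heis.card_center hne hq]
    refine Nat.card_congr
      { toFun := fun x => ⟨ψ ⟨x, x.2.1⟩, (Heis.mem_center_iff hne _).2 ((Heis.mul_self_eq_one_iff _).1 (by
          rw [← map_mul, MulEquiv.map_eq_one_iff]; exact Subtype.ext x.2.2))⟩
        invFun := fun z => ⟨((ψ.symm z : (R : Subgroup G)) : G), (ψ.symm z).2, by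
          rw [← Subgroup.coe_mul, ← map_mul, (Heis.mul_self_eq_one_iff _).2 ((Heis.mem_center_iff hne _).1 z.2),
            map_one, Subgroup.coe_one]⟩
        left_inv := fun x => Subtype.ext (by simp)
        right_inv := fun z => Subtype.ext (by simp) }

end Cfsg.Agent.UType
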