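import Cfsg.Agent.Lib.UType.Local
import Cfsg.Agent.Lib.SolvCores.Main
import Cfsg.Agent.Lib.Involutions.SwapCount

/-!
A group of unitary Sylow type with a central involution and without odd core is 2-closed.
-/

set_option autoImplicit false
set_option linter.style.haveILetI false
set_option linter.unusedSectionVars false

namespace Cfsg.Agent.UType

open Subgroup

universe u

variable {G : Type u} [Group G] [Finite G] {q : ℕ}

theorem le_of_two_le_normalizer {S : Sylow 2 G} {P : Subgroup G} (hP : IsPGroup 2 P)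
    (h : P ≤ normalizer ((S : Subgroup G) : Set G)) : P ≤ (S : Subgroup G) :=
  le_sup_left.trans (S.is_maximal' (hP.to_sup_of_normal_right' S.isPGroup' h) le_sup_right).le

theorem pCore_sq_ne_one (h : UT G q) {f : G} (hf : f ∈ Cfsg.pCore 2 G) (hf2 : f * f ≠ 1) (S : Sylow 2 G) :
    h.omega S ≤ Cfsg.pCore 2 G := by
  haveI : Fact (Nat.Prime 2) := ⟨Nat.prime_two⟩
  intro z hz
  obtain ⟨s, -, rfl⟩ := (h.order_four S (PBasic.pCore_le_sylow S hf) hf2).2.1 z hz
  rw [show f * s * f⁻¹ * s⁻¹ = f * (s * f⁻¹ * s⁻¹) by group]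
  exact mul_mem hf ((Cfsg.pCore_normal 2 G).conj_mem _ (inv_mem hf) s)

/-- The case of a 2-core of exponent four. -/
theorem UT.normal_of_core_four (h : UT G q) (hO : Cfsg.oddCore G = ⊥) {f : G} (hf : f ∈ Cfsg.pCore 2 G)
    (hf2 : f * f ≠ 1) : ∃ S : Sylow 2 G, (S : Subgroup G).Normal := by
  haveI : Fact (Nat.Prime 2) := ⟨Nat.prime_two⟩
  obtain ⟨S⟩ : Nonempty (Sylow 2 G) := inferInstance
  set Q := Cfsg.pCore 2 G with hQ
  haveI hQn : Q.Normal := Cfsg.pCore_normal 2 G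
  have hQS : Q ≤ (S : Subgroup G) := PBasic.pCore_le_sylow S
  set C := centralizer (Q : Set G) with hC
  haveI hCn : C.Normal := inferInstance
  have hΩQ := pCore_sq_ne_one h hf hf2 S
  obtain ⟨T, hT⟩ := PBasic.exists_sylow_subgroupOf S C
  have hCO : Cfsg.oddCore C = ⊥ := by
    have h1 : SESolv.oc C ≤ Cfsg.oddCore G := SEBrick.le_oddCore (normalizer_eq_top_iff.1 (top_le_iff.1
      ((normalizer_eq_top_iff.2 hCn).ge.trans (SESolv.normalizer_le_oc C)))) (SESolv.oc_odd C)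
    rw [hO, le_bot_iff] at h1
    exact (Subgroup.map_eq_bot_iff_of_injective _ C.subtype_injective).1 h1
  have hmem : ∀ a : C, a ∈ (T : Subgroup C) ↔ (a : G) ∈ (S : Subgroup G) := fun a => by rw [hT]; exact mem_subgroupOf
  have hcf : ∀ a : C, (a : G) * f = f * a := fun a => (mem_centralizer_iff.1 a.2 f hf).symm
  have htop : (T : Subgroup C) = ⊤ := eq_top_of_central hCO T
    (fun a ha b hb => Subtype.ext (h.cent_abelian (hQS hf) hf2 ((hmem a).1 ha) ((hmem b).1 hb) (hcf a) (hcf b)))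
    (fun a ha => Subtype.ext (h.sq_mem S ((hmem a).1 ha)).2)
    (fun z hz hz2 => mem_center_iff.2 fun c => Subtype.ext
      ((mem_centralizer_iff.1 c.2 (z : G) (hΩQ ⟨(hmem z).1 hz, congrArg Subtype.val hz2⟩)).symm))
  have hCp : IsPGroup 2 C := by
    have := T.isPGroup'
    rw [htop] at this
    exact this.of_equiv Subgroup.topEquiv
  set Ω := h.omega S with hΩ
  have hΩc : ∀ k : G, ∀ z ∈ Ω, k * z * k⁻¹ ∈ Ω := fun k z hz =>
    ⟨hQS (hQn.conj_mem z (hΩQ hz) k), by
      rw [show k * z * k⁻¹ * (k * z * k⁻¹) = k * (z * z) * k⁻¹ by group, hz.2]; group⟩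
  let N : Subgroup G :=
    { carrier := {g | (∀ z ∈ Ω, g * z * g⁻¹ = z) ∧ ∀ x ∈ Q, x⁻¹ * (g * x * g⁻¹) ∈ Ω}
      one_mem' := ⟨fun z _ => by group, fun x _ => by simp⟩
      mul_mem' := fun {a b} ha hb => ⟨fun z hz => by
          rw [show a * b * z * (a * b)⁻¹ = a * (b * z * b⁻¹) * a⁻¹ by group, hb.1 z hz, ha.1 z hz],
        fun x hx => by
          have e : a * b * x * (a * b)⁻¹ = a * x * a⁻¹ * (x⁻¹ * (b * x * b⁻¹)) := by
            calc a * b * x * (a * b)⁻¹ = a * x * a⁻¹ * (a * (x⁻¹ * (b * x * b⁻¹)) * a⁻¹) := by group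
              _ = _ := by rw [ha.1 _ (hb.2 x hx)]
          rw [e, ← mul_assoc]
          exact mul_mem (ha.2 x hx) (hb.2 x hx)⟩
      inv_mem' := fun {a} ha => by
        refine ⟨fun z hz => ?_, fun x hx => ?_⟩
        · conv_lhs => rw [← ha.1 z hz]
          group
        · have h1 := ha.2 (a⁻¹ * x * a⁻¹⁻¹) (hQn.conj_mem x hx a⁻¹)
          rw [show a * (a⁻¹ * x * a⁻¹⁻¹) * a⁻¹ = x by group] at h1
          have h2 := inv_mem h1
          rwa [mul_inv_rev, inv_inv] at h2 }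
  haveI hNn : N.Normal := ⟨fun g hg k => ⟨fun z hz => by
      have h1 := hg.1 _ (hΩc k⁻¹ z hz)
      calc k * g * k⁻¹ * z * (k * g * k⁻¹)⁻¹ = k * (g * (k⁻¹ * z * k⁻¹⁻¹) * g⁻¹) * k⁻¹ := by group
        _ = k * (k⁻¹ * z * k⁻¹⁻¹) * k⁻¹ := by rw [h1]
        _ = z := by group,
    fun x hx => by
      have h1 := hΩc k _ (hg.2 _ (hQn.conj_mem x hx k⁻¹))
      rwa [show k * ((k⁻¹ * x * k⁻¹⁻¹)⁻¹ * (g * (k⁻¹ * x * k⁻¹⁻¹) * g⁻¹)) * k⁻¹ =
        x⁻¹ * (k * g * k⁻¹ * x * (k * g * k⁻¹)⁻¹) by group] at h1⟩⟩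
  have hNC : ∀ g ∈ N, g * g ∈ C := fun g hg => mem_centralizer_iff.2 fun x hx => by
    set z := x⁻¹ * (g * x * g⁻¹) with hz
    have e : g * g * x * (g * g)⁻¹ = x := by
      calc g * g * x * (g * g)⁻¹ = g * x * g⁻¹ * (g * z * g⁻¹) := by rw [hz]; group
        _ = x * z * z := by rw [hg.1 z (hg.2 x hx), hz, mul_inv_cancel_left]
        _ = x := by rw [mul_assoc, (hg.2 x hx).2, mul_one]
    exact (mul_inv_eq_iff_eq_mul.1 e).symm
  have hNp : IsPGroup 2 N := fun g => by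
    obtain ⟨k, hk⟩ := hCp ⟨(g : G) * g, hNC g g.2⟩
    refine ⟨k + 1, Subtype.ext ?_⟩
    have := congrArg Subtype.val hk
    rw [pow_succ', pow_mul, pow_two]
    simpa using this
  have hSN : (S : Subgroup G) ≤ N := fun s hs => ⟨fun z hz => by
      rw [← h.omega_comm S hz hs, mul_inv_cancel_right],
    fun x hx => by
      rw [show x⁻¹ * (s * x * s⁻¹) = x⁻¹ * s * x⁻¹⁻¹ * s⁻¹ by group]
      exact h.comm_mem S (inv_mem (hQS hx)) hs⟩
  refine ⟨S, ?_⟩
  rw [le_antisymm (hSN.trans (PBasic.le_pCore hNn hNp)) hQS]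
  exact hQn

/-- The case of a central elementary 2-core. -/
theorem UT.normal_of_central_core (h : UT G q) (ih : IH G q) (hO : Cfsg.oddCore G = ⊥) {t : G}
    (ht : orderOf t = 2) (htQ : t ∈ Cfsg.pCore 2 G) (hQc : Cfsg.pCore 2 G ≤ center G)
    (hQ2 : ∀ x ∈ Cfsg.pCore 2 G, x * x = 1) : ∃ S : Sylow 2 G, (S : Subgroup G).Normal := by
  haveI : Fact (Nat.Prime 2) := ⟨Nat.prime_two⟩
  by_contra hnn
  push Not at hnn
  set Q := Cfsg.pCore 2 G with hQ
  haveI hQn : Q.Normal := Cfsg.pCore_normal 2 G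
  set f := QuotientGroup.mk' Q with hf
  have hfs : Function.Surjective f := QuotientGroup.mk'_surjective Q
  have hone : ∀ x : G, f x = 1 ↔ x ∈ Q := fun x => QuotientGroup.eq_one_iff x
  have hcQ : ∀ z ∈ Q, ∀ g : G, g * z = z * g := fun z hz g => mem_center_iff.1 (hQc hz) g
  have hcenQ : ∀ z : G, z * z = 1 → z ∈ center G → z ∈ Q := fun z hz2 hzc => by
    haveI hzn : (zpowers z).Normal := ⟨fun a ha g => by
      obtain ⟨i, rfl⟩ := ha
      rw [(mem_center_iff.1 (zpow_mem hzc i) g), mul_inv_cancel_right]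
      exact ⟨i, rfl⟩⟩
    refine PBasic.le_pCore hzn (fun a => ⟨1, ?_⟩) (mem_zpowers z)
    obtain ⟨_, i, rfl⟩ := a
    apply Subtype.ext
    show (z ^ i) ^ (2 ^ 1) = 1
    rw [pow_one, ← zpow_natCast, ← zpow_mul, mul_comm, zpow_mul, zpow_natCast, pow_two, hz2, one_zpow]
  -- no odd core in the quotient
  have hO' : Cfsg.oddCore (G ⧸ Q) = ⊥ := by
    haveI := FittingCores.pPrimeCore_normal (G := G ⧸ Q) 2
    set N := (Cfsg.oddCore (G ⧸ Q)).comap f with hN
    haveI hNn : N.Normal := inferInstance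
    have hQN : Q ≤ N := fun x hx => by rw [hN, mem_comap, (hone x).2 hx]; exact one_mem _
    have hN2 : ∀ P : Subgroup G, IsPGroup 2 P → P ≤ N → P ≤ Q := fun P hP hPN x hx =>
      (hone x).1 (SESolv.eq_one_of_two_of_odd (hP.map f) SEBrick.oddCore_odd (mem_map_of_mem f hx) (hPN hx))
    obtain ⟨S⟩ : Nonempty (Sylow 2 G) := inferInstance
    obtain ⟨T, hT⟩ := PBasic.exists_sylow_subgroupOf S N
    have hTQ : ∀ a : N, a ∈ (T : Subgroup N) → (a : G) ∈ Q := fun a ha =>
      hN2 _ (T.isPGroup'.map N.subtype) (map_subtype_le _) (mem_map_of_mem N.subtype ha)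
    have hNO : Cfsg.oddCore N = ⊥ := by
      have h1 : SESolv.oc N ≤ Cfsg.oddCore G := SEBrick.le_oddCore (normalizer_eq_top_iff.1 (top_le_iff.1
        ((normalizer_eq_top_iff.2 hNn).ge.trans (SESolv.normalizer_le_oc N)))) (SESolv.oc_odd N)
      rw [hO, le_bot_iff] at h1
      exact (Subgroup.map_eq_bot_iff_of_injective _ N.subtype_injective).1 h1
    have htop := eq_top_of_central hNO T
      (fun a ha b hb => Subtype.ext (hcQ _ (hTQ b hb) a))
      (fun a ha => Subtype.ext (by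
        show (a : G) * a * ((a : G) * a) = 1
        rw [hQ2 _ (hTQ a ha), one_mul]))
      (fun a ha _ => mem_center_iff.2 fun c => Subtype.ext (hcQ _ (hTQ a ha) c))
    refine (eq_bot_iff_forall _).2 fun w hw => ?_
    obtain ⟨x, rfl⟩ := hfs w
    exact (hone x).2 (hTQ ⟨x, hw⟩ (htop ▸ mem_top _))
  -- lifts of involutions
  have hlift : ∀ w : G ⧸ Q, orderOf w = 2 → ∃ (S : Sylow 2 G) (y : G),
      y ∈ (S : Subgroup G) ∧ y ∉ Q ∧ y * y ∈ Q ∧ f y = w := by
    intro w hw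
    obtain ⟨R, hR⟩ := (IsPGroup.of_card (n := 1) (by rw [Nat.card_zpowers, hw, pow_one]) :
      IsPGroup 2 (zpowers w)).exists_le_sylow
    obtain ⟨S, rfl⟩ := Sylow.mapSurjective_surjective hfs 2 R
    obtain ⟨y, hy, rfl⟩ : w ∈ (S : Subgroup G).map f := by
      have := hR (mem_zpowers w)
      rwa [Sylow.coe_mapSurjective] at this
    refine ⟨S, y, hy, fun e => ?_, (hone _).1 (by rw [map_mul]; exact Invol.mul_self hw), rfl⟩
    rw [(hone y).2 e, orderOf_one] at hw
    omega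
  have hcent : ∀ S : Sylow 2 G, ∀ y ∈ (S : Subgroup G), y ∉ Q → Group.IsSolvable (centralizer ({y} : Set G)) := by
    intro S y hy hyQ
    by_cases hy2 : y * y = 1
    · exact (h.cent_invol ih (Invol.order_two_of_sq hy2 fun e => hyQ (e ▸ one_mem Q))
        fun e => hyQ (hcenQ y hy2 e)).2
    · exact h.cent_four ih hy hy2
  have hsol : ∀ w : G ⧸ Q, orderOf w = 2 → Group.IsSolvable ↥(centralizer ({w} : Set (G ⧸ Q))) := by
    intro w hw
    obtain ⟨S, y, hy, hyQ, -, rfl⟩ := hlift w hw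
    exact solvable_centralizer_quot hQc (hcent S y hy hyQ)
  obtain ⟨S⟩ : Nonempty (Sylow 2 G) := inferInstance
  have hQS : Q ≤ (S : Subgroup G) := PBasic.pCore_le_sylow S
  have hQΩ : ∀ x ∈ Q, x ∈ h.omega S := fun x hx => ⟨hQS hx, hQ2 x hx⟩
  obtain ⟨f₀, hf₀, hf₀2⟩ := h.exists_four S
  have ht1 : t ≠ 1 := fun e => by rw [e, orderOf_one] at ht; omega
  obtain ⟨x₀, hx₀, hx₀t⟩ := h.sq_surj S (hQΩ t htQ)
  have hx₀2 : x₀ * x₀ ≠ 1 := hx₀t.symm ▸ ht1
  -- the hub
  set S' : Sylow 2 (G ⧸ Q) := S.mapSurjective hfs with hS'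
  have hS'c : (S' : Subgroup (G ⧸ Q)) = (S : Subgroup G).map f := Sylow.coe_mapSurjective hfs S
  set A := (S : Subgroup G) ⊓ centralizer ({x₀} : Set G) with hA
  have hAc : ∀ a ∈ A, ∀ b ∈ A, a * b = b * a := fun a ha b hb =>
    h.cent_abelian hx₀ hx₀2 ha.1 hb.1 (mem_centralizer_singleton_iff.1 ha.2) (mem_centralizer_singleton_iff.1 hb.2)
  let V : Subgroup G :=
    { carrier := {a | a ∈ A ∧ a * a ∈ Q}
      one_mem' := ⟨one_mem _, by rw [one_mul]; exact one_mem _⟩
      mul_mem' := fun {a b} ha hb => ⟨mul_mem ha.1 hb.1, by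
        rw [mul_assoc, ← mul_assoc b a b, hAc b hb.1 a ha.1, mul_assoc a b b, ← mul_assoc]
        exact mul_mem ha.2 hb.2⟩
      inv_mem' := fun {a} ha => ⟨inv_mem ha.1, by rw [← mul_inv_rev]; exact inv_mem ha.2⟩ }
  have hΩA : ∀ z ∈ h.omega S, z ∈ A := fun z hz =>
    ⟨hz.1, mem_centralizer_singleton_iff.2 (h.omega_comm S hz hx₀)⟩
  have hΩV : h.omega S ≤ V := fun z hz => ⟨hΩA z hz, by rw [hz.2]; exact one_mem Q⟩
  have hVea : Cfsg.IsElementaryAbelian 2 (V.map f) := by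
    refine ⟨.of_setLike_mul_comm ?_, ?_⟩
    · rintro _ ⟨a, ha, rfl⟩ _ ⟨b, hb, rfl⟩
      rw [← map_mul, ← map_mul, hAc a ha.1 b hb.1]
    · rintro _ ⟨a, ha, rfl⟩
      rw [pow_two, ← map_mul, hone]
      exact ha.2
  -- the order of the hub
  have hcardV : 8 ≤ Nat.card (V.map f) := by
    let sq : V →* Q :=
      { toFun := fun a => ⟨(a : G) * a, a.2.2⟩
        map_one' := Subtype.ext (one_mul 1)
        map_mul' := fun a b => Subtype.ext (by
          show (a : G) * b * ((a : G) * b) = (a : G) * a * ((b : G) * b)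
          rw [mul_assoc, ← mul_assoc (b : G) a b, hAc b b.2.1 a a.2.1]
          group) }
    have hker : q ≤ Nat.card sq.ker := by
      rw [← h.card_omega S]
      exact Nat.card_le_card_of_injective (fun z => ⟨⟨z, hΩV z.2⟩, Subtype.ext z.2.2⟩)
        fun a b e => Subtype.ext (congrArg (fun z : sq.ker => ((z : V) : G)) e)
    have hsurj : Function.Surjective sq := by
      intro z
      obtain ⟨a, ha, hax, haz⟩ := (h.order_four S hx₀ hx₀2).2.2 z (hQΩ z z.2)
      exact ⟨⟨a, ⟨ha, mem_centralizer_singleton_iff.2 hax⟩, by rw [haz]; exact z.2⟩, Subtype.ext haz⟩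
    set g := f.subgroupMap V with hg
    have hgker : Nat.card g.ker ≤ Nat.card Q :=
      Nat.card_le_card_of_injective (fun a => (⟨((a : V) : G), (hone _).1 (congrArg Subtype.val a.2)⟩ : Q))
        fun a b e => Subtype.ext (Subtype.ext (congrArg (fun z : Q => (z : G)) e))
    have e1 := Subgroup.card_eq_card_quotient_mul_card_subgroup sq.ker
    rw [Nat.card_congr (QuotientGroup.quotientKerEquivOfSurjective sq hsurj).toEquiv] at e1
    have e2 := Subgroup.card_eq_card_quotient_mul_card_subgroup g.ker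
    rw [Nat.card_congr (QuotientGroup.quotientKerEquivOfSurjective g (f.subgroupMap_surjective V)).toEquiv, e1] at e2
    refine h.eight.trans (Nat.le_of_mul_le_mul_right ?_ (Nat.card_pos (α := Q)))
    calc q * Nat.card Q ≤ Nat.card sq.ker * Nat.card Q := Nat.mul_le_mul_right _ hker
      _ = Nat.card (V.map f) * Nat.card g.ker := by rw [mul_comm]; exact e2
      _ ≤ _ := Nat.mul_le_mul_left _ hgker
  have hub : SolvCores.Hub S' (V.map f) := by
    refine ⟨hVea, hcardV, by rw [hS'c]; exact map_mono fun a ha => ha.1.1, ?_⟩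
    rw [hS'c]
    rintro _ ⟨s, hs, rfl⟩ _ ⟨a, ha, rfl⟩
    refine ⟨s * a * s⁻¹, ?_, by simp⟩
    rw [show s * a * s⁻¹ = s * a * s⁻¹ * a⁻¹ * a by group]
    exact mul_mem (hΩV (h.comm_mem S hs ha.1.1)) ha
  -- a strongly embedded subgroup
  obtain ⟨H, hH⟩ : ∃ H : Subgroup (G ⧸ Q), Cfsg.IsStronglyEmbedded H := by
    rcases hub.dichotomy hO' hsol with hcores | ⟨H, hH, -⟩
    swap
    · exact ⟨H, hH⟩
    refine ⟨normalizer ((S' : Subgroup (G ⧸ Q)) : Set (G ⧸ Q)), Invol.se_of_centralizers ?_ (S'.subtype le_normalizer)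
      ?_ ?_ ?_⟩
    · intro e
      refine hnn S ?_
      have h1 : ((S' : Subgroup (G ⧸ Q)).comap f).Normal := (normalizer_eq_top_iff.1 e).comap f
      rwa [hS'c, Subgroup.comap_map_eq, hf, QuotientGroup.ker_mk', sup_eq_left.2 hQS] at h1
    · refine Invol.even_of_invol_mem (t := f x₀) (Invol.order_two_of_sq (by rw [← map_mul, hone, hx₀t]; exact htQ)
        fun e => hx₀2 (hQ2 x₀ ((hone x₀).1 e))) (le_normalizer (hS'c ▸ mem_map_of_mem f hx₀))
    · rw [Sylow.coe_subtype (h := le_normalizer), Subgroup.map_subgroupOf_eq_of_le le_normalizer]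
    intro w hwN hw
    have hwS : w ∈ (S' : Subgroup (G ⧸ Q)) := le_of_two_le_normalizer
      (IsPGroup.of_card (n := 1) (by rw [Nat.card_zpowers, hw, pow_one])) (zpowers_le.2 hwN) (mem_zpowers w)
    rw [hS'c] at hwS
    obtain ⟨y, hy, rfl⟩ := hwS
    have hyQ : y ∉ Q := fun e => by rw [(hone y).2 e, orderOf_one] at hw; omega
    set C := centralizer ({y} : Set G) with hC
    haveI : Group.IsSolvable C := hcent S y hy hyQ
    intro k hk
    obtain ⟨g, rfl⟩ := hfs k
    have hgy : g * y * g⁻¹ * y⁻¹ ∈ Q := by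
      rw [← hone]
      simp only [map_mul, map_inv]
      rw [mem_centralizer_singleton_iff.1 hk]
      group
    -- the preimage normalises the centraliser
    have hconjC : ∀ g : G, g * y * g⁻¹ * y⁻¹ ∈ Q → ∀ x ∈ C, g * x * g⁻¹ ∈ C := by
      intro g hgy x hx
      have hx' := mem_centralizer_singleton_iff.1 hx
      obtain ⟨z, hz, e⟩ : ∃ z ∈ Q, g * y * g⁻¹ = z * y := ⟨_, hgy, (inv_mul_cancel_right _ _).symm⟩
      refine mem_centralizer_singleton_iff.2 ?_
      have ey : y = z⁻¹ * (g * y * g⁻¹) := by rw [e, inv_mul_cancel_left]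
      calc g * x * g⁻¹ * y = g * x * g⁻¹ * (z⁻¹ * (g * y * g⁻¹)) := by rw [← ey]
        _ = z⁻¹ * (g * (x * y) * g⁻¹) := by rw [← mul_assoc, hcQ _ (inv_mem hz)]; group
        _ = z⁻¹ * (g * (y * x) * g⁻¹) := by rw [hx']
        _ = z⁻¹ * (g * y * g⁻¹) * (g * x * g⁻¹) := by group
        _ = y * (g * x * g⁻¹) := by rw [← ey]
    set K := (centralizer ({f y} : Set (G ⧸ Q))).comap f with hKdef
    have hKgy : ∀ a ∈ K, a * y * a⁻¹ * y⁻¹ ∈ Q := fun a ha => by
      rw [← hone]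
      simp only [map_mul, map_inv]
      rw [mem_centralizer_singleton_iff.1 (show f a ∈ centralizer ({f y} : Set (G ⧸ Q)) from ha)]
      group
    have hKn : K ≤ normalizer (C : Set G) := SEBrick.le_normalizer_of fun a ha => hconjC a (hKgy a ha)
    have hCK : C ≤ K := fun x hx => mem_comap.2 (mem_centralizer_singleton_iff.2 (by
      rw [← map_mul, ← map_mul, mem_centralizer_singleton_iff.1 hx]))
    have hocC : SESolv.oc C = ⊥ := by
      set Y := (SESolv.oc C).map f with hY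
      have h1 : Y ≤ SESolv.oc (centralizer ({f y} : Set (G ⧸ Q))) := by
        refine SESolv.le_oc ?_ ((SESolv.oc_odd C).of_dvd_nat (card_map_dvd _ f)) ?_
        · rintro _ ⟨x, hx, rfl⟩
          exact hCK (SESolv.oc_le C hx)
        · refine SEBrick.le_normalizer_of fun a ha b hb => ?_
          obtain ⟨a, rfl⟩ := hfs a
          obtain ⟨b, hb, rfl⟩ := hb
          refine ⟨a * b * a⁻¹, SEBrick.conj_mem_of (SESolv.normalizer_le_oc C (hKn ha)) hb, by simp⟩
      rw [oc_eq_bot (hcores (f y) hw), le_bot_iff, hY, Subgroup.map_eq_bot_iff, hf, QuotientGroup.ker_mk'] at h1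
      refine (eq_bot_iff_forall _).2 fun x hx => ?_
      exact SESolv.eq_one_of_two_of_odd (PBasic.pCore_isPGroup 2 G) (SESolv.oc_odd C) (h1 hx) hx
    have hgN : g ∈ normalizer ((S : Subgroup G) : Set G) := by
      by_cases hy2 : y * y = 1
      · have hSC : (S : Subgroup G) ≤ C := fun x hx =>
          mem_centralizer_singleton_iff.2 (h.omega_comm S ⟨hy, hy2⟩ hx).symm
        have hy1 : y ≠ 1 := fun e => hyQ (e ▸ one_mem Q)
        have hCN : C ≤ normalizer ((S : Subgroup G) : Set G) :=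
          h.le_normalizer_of_central ih
            (h.cent_invol ih (Invol.order_two_of_sq hy2 hy1) fun e => hyQ (hcenQ y hy2 e)).1 hSC
            (Invol.order_two_of_sq hy2 hy1) (mem_centralizer_singleton_iff.2 rfl)
            (fun k hk => mem_centralizer_singleton_iff.1 hk) hocC
        refine SEBrick.mem_normalizer_of fun x hx => le_of_two_le_normalizer
          (S.isPGroup'.map (MulAut.conj g).toMonoidHom) ?_ ⟨x, hx, rfl⟩
        rintro _ ⟨x, hx, rfl⟩
        exact hCN (hconjC g hgy x (hSC hx))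
      obtain ⟨T, hT⟩ := h.cent_sylow hy hy2
      have hTab : ∀ a ∈ (T : Subgroup C), ∀ b ∈ (T : Subgroup C), a * b = b * a := fun a ha b hb => by
        rw [hT, mem_subgroupOf] at ha hb
        exact Subtype.ext (h.cent_abelian hy hy2 ha hb (mem_centralizer_singleton_iff.1 a.2)
          (mem_centralizer_singleton_iff.1 b.2))
      -- the Sylow subgroup of the centraliser is normal
      have hTn : (T : Subgroup C).Normal := by
        have hCO : Cfsg.oddCore C = ⊥ := (Subgroup.map_eq_bot_iff_of_injective _ C.subtype_injective).1 hocC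
        have h1 := FittingCores.centralizer_pCore_le Nat.prime_two hCO
        have h2 : (T : Subgroup C) ≤ Cfsg.pCore 2 C := fun a ha => h1 (mem_centralizer_iff.2 fun b hb =>
          hTab b (PBasic.pCore_le_sylow T hb) a ha)
        rw [le_antisymm h2 (PBasic.pCore_le_sylow T)]
        exact Cfsg.pCore_normal 2 C
      set B := (S : Subgroup G) ⊓ C with hB
      have hBT : B = (T : Subgroup C).map C.subtype := by rw [hT, subgroupOf_map_subtype]
      have hCB : C ≤ normalizer (B : Set G) := hBT ▸ SESolv.le_normalizer_map hTn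
      have hgB : g ∈ normalizer (B : Set G) := SEBrick.mem_normalizer_of fun x hx => by
        haveI : Subsingleton (Sylow 2 C) := (Sylow.unique_of_normal T hTn).instSubsingleton
        have hgx := hconjC g hgy x hx.2
        have hp : IsPGroup 2 (zpowers (⟨g * x * g⁻¹, hgx⟩ : C)) := by
          obtain ⟨j, hj⟩ := S.isPGroup' ⟨x, hx.1⟩
          have hxj : x ^ 2 ^ j = 1 := congrArg Subtype.val hj
          obtain ⟨e, -, he⟩ := (Nat.dvd_prime_pow Nat.prime_two).1 (orderOf_dvd_of_pow_eq_one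
            (show (⟨g * x * g⁻¹, hgx⟩ : C) ^ 2 ^ j = 1 from Subtype.ext (by
              rw [Subgroup.coe_pow, Subgroup.coe_one]
              show (g * x * g⁻¹) ^ 2 ^ j = 1
              rw [conj_pow, hxj, mul_one, mul_inv_cancel])))
          exact IsPGroup.of_card (n := e) (by rw [Nat.card_zpowers, he])
        obtain ⟨R, hR⟩ := hp.exists_le_sylow
        have hxT : (⟨g * x * g⁻¹, hgx⟩ : C) ∈ (T : Subgroup C) := Subsingleton.elim R T ▸ hR (mem_zpowers _)
        rw [hBT]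
        exact ⟨_, hxT, rfl⟩
      set M := normalizer (B : Set G) with hM
      have hSM : (S : Subgroup G) ≤ M := SEBrick.le_normalizer_of fun s hs x hx => by
        rw [show s * x * s⁻¹ = s * x * s⁻¹ * x⁻¹ * x by group]
        refine mul_mem ⟨(h.comm_mem S hs hx.1).1, ?_⟩ hx
        exact mem_centralizer_singleton_iff.2 (h.omega_comm S (h.comm_mem S hs hx.1) hy)
      have hM1 : M ≠ ⊤ := fun e => hy2 (hQ2 y (PBasic.le_pCore (normalizer_eq_top_iff.1 e)
        (S.isPGroup'.to_le inf_le_left) ⟨hy, mem_centralizer_singleton_iff.2 rfl⟩))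
      have hocM : SESolv.oc M = ⊥ := by
        have hle : SESolv.oc M ≤ C := fun o ho => by
          refine mem_centralizer_singleton_iff.2 ?_
          have hyB : y ∈ B := ⟨hy, mem_centralizer_singleton_iff.2 rfl⟩
          have h1 : o * y * o⁻¹ * y⁻¹ ∈ B :=
            mul_mem (SEBrick.conj_mem_of (SESolv.oc_le M ho) hyB) (inv_mem hyB)
          have h2 : o * y * o⁻¹ * y⁻¹ ∈ SESolv.oc M := by
            rw [show o * y * o⁻¹ * y⁻¹ = o * (y * o⁻¹ * y⁻¹) by group]
            exact mul_mem ho (SEBrick.conj_mem_of (SESolv.oc_normal M (le_normalizer hyB)) (inv_mem ho))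
          exact mul_inv_eq_iff_eq_mul.1 (mul_inv_eq_one.1 (SESolv.eq_one_of_two_of_odd
            (S.isPGroup'.to_le inf_le_left) (SESolv.oc_odd M) h1 h2))
        exact le_bot_iff.1 (hocC ▸ SESolv.le_oc hle (SESolv.oc_odd M) (hCB.trans (SESolv.oc_normal M)))
      exact h.le_normalizer_of_central ih hM1 hSM ht (hSM (hQS htQ)) (fun k _ => hcQ t htQ k) hocM hgB
    refine SEBrick.mem_normalizer_of fun x hx => ?_
    rw [hS'c] at hx ⊢
    obtain ⟨a, ha, rfl⟩ := hx
    exact ⟨g * a * g⁻¹, SEBrick.conj_mem_of hgN ha, by simp⟩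
  -- two classes of involutions
  obtain ⟨y₁, y₂, hy₁S, hy₂S, hy₁Q, hy₂Q, hs₁, hs₂, hne⟩ : ∃ y₁ y₂ : G, y₁ ∈ (S : Subgroup G) ∧
      y₂ ∈ (S : Subgroup G) ∧ y₁ ∉ Q ∧ y₂ ∉ Q ∧ y₁ * y₁ ∈ Q ∧ y₂ * y₂ ∈ Q ∧ y₁ * y₁ ≠ y₂ * y₂ := by
    have hnQ : ∀ y : G, y * y ≠ 1 → y ∉ Q := fun y hy e => hy (hQ2 y e)
    by_cases hΩQ : h.omega S ≤ Q
    · obtain ⟨z, hz, hz1, hzt⟩ : ∃ z ∈ h.omega S, z ≠ 1 ∧ z ≠ t := by
        by_contra! hc
        have h8 := h.eight
        have : (h.omega S : Set G).ncard ≤ ({1, t} : Set G).ncard := Set.ncard_le_ncard (fun x hx => by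
          by_cases h1 : x = 1
          · exact Or.inl h1
          · exact Or.inr (hc x hx h1)) (Set.toFinite _)
        rw [Set.ncard_pair ht1.symm, ← Nat.card_coe_set_eq] at this
        have e := h.card_omega S
        rw [← SetLike.coe_sort_coe] at e
        omega
      obtain ⟨y, hy, hyz⟩ := h.sq_surj S hz
      exact ⟨x₀, y, hx₀, hy, hnQ _ hx₀2, hnQ _ (hyz.symm ▸ hz1), hx₀t.symm ▸ htQ, hyz.symm ▸ hΩQ hz,
        by rw [hx₀t, hyz]; exact hzt.symm⟩
    · obtain ⟨s, hs, hsQ⟩ := SetLike.not_le_iff_exists.1 hΩQ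
      exact ⟨x₀, s, hx₀, hs.1, hnQ _ hx₀2, hsQ, hx₀t.symm ▸ htQ, by rw [hs.2]; exact one_mem Q,
        by rw [hs.2]; exact hx₀2⟩
  have hord : ∀ y : G, y ∉ Q → y * y ∈ Q → orderOf (f y) = 2 := fun y hy hyy =>
    Invol.order_two_of_sq (by rw [← map_mul]; exact (hone _).2 hyy) fun e => hy ((hone y).1 e)
  obtain ⟨c, hc⟩ := isConj_iff.1 (Invol.se_isConj hH (hord y₁ hy₁Q hs₁) (hord y₂ hy₂Q hs₂))
  obtain ⟨g, rfl⟩ := hfs c
  set z := g * y₁ * g⁻¹ * y₂⁻¹ with hz
  have hzQ : z ∈ Q := by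
    rw [← hone, hz]
    simp only [map_mul, map_inv]
    rw [hc, mul_inv_cancel]
  refine hne ?_
  calc y₁ * y₁ = g * (y₁ * y₁) * g⁻¹ := by rw [hcQ _ hs₁ g, mul_inv_cancel_right]
    _ = (z * y₂) * (z * y₂) := by rw [hz]; group
    _ = z * z * (y₂ * y₂) := by rw [mul_assoc, ← mul_assoc y₂ z y₂, hcQ z hzQ y₂]; group
    _ = y₂ * y₂ := by rw [hQ2 z hzQ, one_mul]

/-- A central involution and no odd core: 2-closed. -/
theorem UT.normal_of_central_invol (h : UT G q) (ih : IH G q) (hO : Cfsg.oddCore G = ⊥) {t : G}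
    (ht : orderOf t = 2) (htc : t ∈ center G) : ∃ S : Sylow 2 G, (S : Subgroup G).Normal := by
  haveI : Fact (Nat.Prime 2) := ⟨Nat.prime_two⟩
  set Q := Cfsg.pCore 2 G with hQ
  haveI hQn : Q.Normal := Cfsg.pCore_normal 2 G
  by_cases hf : ∃ f ∈ Q, f * f ≠ 1
  · obtain ⟨f, hf, hf2⟩ := hf
    exact h.normal_of_core_four hO hf hf2
  push Not at hf
  have htQ : t ∈ Q := by
    haveI hzn : (zpowers t).Normal := ⟨fun a ha g => by
      obtain ⟨i, rfl⟩ := ha
      rw [(mem_center_iff.1 (zpow_mem htc i) g), mul_inv_cancel_right]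
      exact ⟨i, rfl⟩⟩
    exact PBasic.le_pCore hzn (IsPGroup.of_card (n := 1) (by rw [Nat.card_zpowers, ht, pow_one])) (mem_zpowers t)
  obtain ⟨S⟩ : Nonempty (Sylow 2 G) := inferInstance
  set C := centralizer (Q : Set G) with hC
  haveI hCn : C.Normal := inferInstance
  have hSC : (S : Subgroup G) ≤ C := fun s hs => mem_centralizer_iff.2 fun x hx =>
    h.omega_comm S ⟨PBasic.pCore_le_sylow S hx, hf x hx⟩ hs
  by_cases htop : C = ⊤
  · exact h.normal_of_central_core ih hO ht htQ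
      (fun x hx => mem_center_iff.2 fun g => (mem_centralizer_iff.1 (htop ▸ mem_top g : g ∈ C) x hx).symm) hf
  refine ⟨S, ?_⟩
  have hoc : SESolv.oc C = ⊥ := le_bot_iff.1 (hO ▸ SEBrick.le_oddCore (normalizer_eq_top_iff.1 (top_le_iff.1
    ((normalizer_eq_top_iff.2 hCn).ge.trans (SESolv.normalizer_le_oc C)))) (SESolv.oc_odd C))
  have hCN : C ≤ normalizer ((S : Subgroup G) : Set G) := h.le_normalizer_of_central ih htop hSC ht
    (hSC (PBasic.pCore_le_sylow S htQ)) (fun k _ => mem_center_iff.1 htc k) hoc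
  refine ⟨fun x hx g => le_of_two_le_normalizer (S.isPGroup'.map (MulAut.conj g).toMonoidHom) ?_ ⟨x, hx, rfl⟩⟩
  rintro _ ⟨x, hx, rfl⟩
  exact hCN (hCn.conj_mem x (hSC hx) g)

end Cfsg.Agent.UType
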