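import Cfsg.Agent.Lib.UType.Basic
import Cfsg.Agent.Lib.UType.Abelian

/-!
Subgroups with a central involution, and centralisers of elements of order four, for Sylow 2-subgroups of
unitary type.
-/

set_option autoImplicit false
set_option linter.style.haveILetI false
set_option linter.unusedSectionVars false

namespace Cfsg.Agent.UType

open Subgroup

universe u

/-- A Sylow 2-subgroup with strongly embedded normaliser without odd core. -/
def Big (G : Type u) [Group G] [Finite G] : Prop :=
  ∃ S : Sylow 2 G, Cfsg.IsStronglyEmbedded (normalizer ((S : Subgroup G) : Set G)) ∧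
    SESolv.oc (normalizer ((S : Subgroup G) : Set G)) = ⊥

/-- The outcomes for a group without odd core. -/
def Res (G : Type u) [Group G] [Finite G] : Prop := (∃ S : Sylow 2 G, (S : Subgroup G).Normal) ∨ Big G

/-- The inductive hypothesis. -/
def IH (G : Type u) [Group G] [Finite G] (q : ℕ) : Prop :=
  ∀ (K : Type u) [Group K] [Finite K], Nat.card K < Nat.card G → UT K q → Cfsg.oddCore K = ⊥ → Res K

variable {G : Type u} [Group G] [Finite G] {q : ℕ}

theorem oc_eq_bot {C : Subgroup G} (h : Cfsg.oddCore C = ⊥) : SESolv.oc C = ⊥ := by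
  rw [SESolv.oc, h, Subgroup.map_bot]

theorem le_normalizer_oc_of_conj {C : Subgroup G} {g : G} (hg : g ∈ normalizer (C : Set G)) :
    g ∈ normalizer (SESolv.oc C : Set G) :=
  SESolv.normalizer_le_oc C hg

/-- Proper subgroups with a Sylow subgroup and a central involution. -/
theorem UT.small_of_central (h : UT G q) (ih : IH G q) {K : Subgroup G} (hK : K ≠ ⊤) {S : Sylow 2 G}
    (hSK : (S : Subgroup G) ≤ K) {t : G} (ht : orderOf t = 2) (htK : t ∈ K) (htc : ∀ k ∈ K, k * t = t * k) :
    Group.IsSolvable K ∧ ∀ k ∈ K, ∃ o ∈ SESolv.oc K, ∃ n ∈ K, n ∈ normalizer ((S : Subgroup G) : Set G) ∧ k = o * n := by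
  haveI : Fact (Nat.Prime 2) := ⟨Nat.prime_two⟩
  haveI := FittingCores.pPrimeCore_normal (G := K) 2
  set O := Cfsg.oddCore K with hO
  set f := QuotientGroup.mk' O with hf
  have hfs : Function.Surjective f := QuotientGroup.mk'_surjective O
  have hk : Odd (Nat.card f.ker) := by rw [hf, QuotientGroup.ker_mk']; exact SEBrick.oddCore_odd
  have hlt : Nat.card (K ⧸ O) < Nat.card G :=
    lt_of_le_of_lt (Nat.card_le_card_of_surjective f hfs) (Functors.card_lt_of_ne_top hK)
  have hO' : Cfsg.oddCore (K ⧸ O) = ⊥ := FittingCores.pPrimeCore_quotient_eq_bot 2 O hO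
  rcases ih _ hlt ((h.sub hSK).quot f hfs hk) hO' with ⟨P, hP⟩ | ⟨P, hse, -⟩
  · haveI := hP
    haveI : Group.IsSolvable (K ⧸ O) := solvable_of_sylow_normal P hP
    haveI : Group.IsSolvable O := OddChar.oddSolvable _ SEBrick.oddCore_odd
    refine ⟨Group.isSolvable_of_ker_le_range O.subtype f (by rw [hf, QuotientGroup.ker_mk', range_subtype]),
      fun k hkK => ?_⟩
    set SK : Sylow 2 K := S.subtype hSK with hSKdef
    haveI : ((P : Subgroup (K ⧸ O)).comap f).Normal := hP.comap f
    set N := (P : Subgroup (K ⧸ O)).comap f with hN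
    have hSN : (SK : Subgroup K) ≤ N := by
      haveI : Subsingleton (Sylow 2 (K ⧸ O)) := (Sylow.unique_of_normal P hP).instSubsingleton
      rw [hN, ← Subgroup.map_le_iff_le_comap, ← Sylow.coe_mapSurjective hfs,
        Subsingleton.elim (SK.mapSurjective hfs) P]
    have hNle : N ≤ O ⊔ (SK : Subgroup K) := by
      haveI : Subsingleton (Sylow 2 (K ⧸ O)) := (Sylow.unique_of_normal P hP).instSubsingleton
      rw [hN, ← Subsingleton.elim (SK.mapSurjective hfs) P, Sylow.coe_mapSurjective, Subgroup.comap_map_eq, hf,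
        QuotientGroup.ker_mk', sup_comm]
    have hfr := Sylow.normalizer_sup_eq_top (SK.subtype hSN)
    rw [Sylow.coe_subtype (h := hSN), Subgroup.map_subgroupOf_eq_of_le hSN] at hfr
    have htop : (⊤ : Subgroup K) ≤ O ⊔ normalizer ((SK : Subgroup K) : Set K) :=
      hfr ▸ sup_le le_sup_right (hNle.trans (sup_le le_sup_left (le_normalizer.trans le_sup_right)))
    obtain ⟨o, ho, n, hn, e⟩ := mem_sup_of_normal_left.1 (htop (mem_top ⟨k, hkK⟩))
    refine ⟨o, ⟨o, ho, rfl⟩, n, n.2, ?_, (congrArg Subtype.val e).symm⟩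
    refine SEBrick.mem_normalizer_of fun x hx => ?_
    have := SEBrick.conj_mem_of (X := (SK : Subgroup K)) hn (show (⟨x, hSK hx⟩ : K) ∈ (SK : Subgroup K) from hx)
    exact this
  · exfalso
    set t' := f ⟨t, htK⟩ with ht'
    have htc' : ∀ k : K ⧸ O, k * t' = t' * k := fun k => by
      obtain ⟨a, rfl⟩ := hfs k
      rw [ht', ← map_mul, ← map_mul]
      exact congrArg f (Subtype.ext (htc a a.2))
    have h2 : orderOf t' = 2 := by
      refine Invol.order_two_of_sq ?_ fun e => ?_
      · rw [ht', ← map_mul, show (⟨t, htK⟩ : K) * ⟨t, htK⟩ = 1 from Subtype.ext (Invol.mul_self ht), map_one]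
      · have h1 : (⟨t, htK⟩ : K) ∈ f.ker := e
        have := SEBrick.odd_order hk h1
        rw [Subgroup.orderOf_mk, ht] at this
        exact absurd this (by decide)
    have htM : t' ∈ normalizer ((P : Subgroup (K ⧸ O)) : Set (K ⧸ O)) :=
      SEBrick.mem_normalizer_of fun x hx => by rwa [← htc' x, mul_inv_cancel_right]
    exact hse.1 ((eq_top_iff' _).2 fun g => Invol.se_centralizer_le hse h2 htM (mem_centralizer_singleton_iff.2 (htc' g)))

/-- If the odd core vanishes such a subgroup normalises its Sylow subgroup. -/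
theorem UT.le_normalizer_of_central (h : UT G q) (ih : IH G q) {K : Subgroup G} (hK : K ≠ ⊤) {S : Sylow 2 G}
    (hSK : (S : Subgroup G) ≤ K) {t : G} (ht : orderOf t = 2) (htK : t ∈ K) (htc : ∀ k ∈ K, k * t = t * k)
    (hoc : SESolv.oc K = ⊥) : K ≤ normalizer ((S : Subgroup G) : Set G) := by
  intro k hk
  obtain ⟨o, ho, n, -, hn, rfl⟩ := (h.small_of_central ih hK hSK ht htK htc).2 k hk
  rw [hoc, mem_bot] at ho
  rwa [ho, one_mul]

/-- The centraliser of a non-central involution. -/
theorem UT.cent_invol (h : UT G q) (ih : IH G q) {t : G} (ht : orderOf t = 2) (htc : t ∉ center G) :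
    centralizer ({t} : Set G) ≠ ⊤ ∧ Group.IsSolvable (centralizer ({t} : Set G)) := by
  haveI : Fact (Nat.Prime 2) := ⟨Nat.prime_two⟩
  obtain ⟨S, hS⟩ := (IsPGroup.of_card (n := 1) (by rw [Nat.card_zpowers, ht, pow_one]) :
    IsPGroup 2 (zpowers t)).exists_le_sylow
  have htS : t ∈ (S : Subgroup G) := hS (mem_zpowers t)
  have hSC : (S : Subgroup G) ≤ centralizer ({t} : Set G) := fun x hx =>
    mem_centralizer_singleton_iff.2 (h.omega_comm S ⟨htS, Invol.mul_self ht⟩ hx).symm
  have hne : centralizer ({t} : Set G) ≠ ⊤ := fun e => htc (mem_center_iff.2 fun g =>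
    mem_centralizer_singleton_iff.1 (e ▸ mem_top g))
  exact ⟨hne, (h.small_of_central ih hne hSC ht (hSC htS) fun k hk => mem_centralizer_singleton_iff.1 hk).1⟩

/-- The centraliser in the Sylow subgroup is a Sylow subgroup of the centraliser. -/
theorem UT.cent_sylow (h : UT G q) {S : Sylow 2 G} {y : G} (hy : y ∈ (S : Subgroup G)) (hy2 : y * y ≠ 1) :
    ∃ T : Sylow 2 (centralizer ({y} : Set G)),
      (T : Subgroup (centralizer ({y} : Set G))) = (S : Subgroup G).subgroupOf (centralizer ({y} : Set G)) := by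
  haveI : Fact (Nat.Prime 2) := ⟨Nat.prime_two⟩
  set K := centralizer ({y} : Set G) with hK
  have hp : IsPGroup 2 ((S : Subgroup G).subgroupOf K) := S.isPGroup'.comap_subtype
  obtain ⟨T, hT⟩ := hp.exists_le_sylow
  refine ⟨T, (Subgroup.eq_of_le_of_card_ge hT ?_).symm⟩
  have hyK : y ∈ K := mem_centralizer_singleton_iff.2 rfl
  have hyT : y ∈ (T : Subgroup K).map K.subtype := ⟨⟨y, hyK⟩, hT hy, rfl⟩
  obtain ⟨R, hR⟩ := (T.isPGroup'.map K.subtype).exists_le_sylow
  have hle : (T : Subgroup K).map K.subtype ≤ (R : Subgroup G) ⊓ centralizer ({y} : Set G) :=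
    le_inf hR (map_subtype_le _)
  have h1 := card_le_of_le hle
  rw [card_map_of_injective K.subtype_injective, (h.order_four R (hR hyT) hy2).1,
    ← (h.order_four S hy hy2).1] at h1
  refine h1.trans (le_of_eq ?_)
  rw [← inf_subgroupOf_right]
  exact (Nat.card_congr (subgroupOfEquivOfLe inf_le_right).toEquiv).symm

theorem UT.cent_abelian (h : UT G q) {S : Sylow 2 G} {y : G} (hy : y ∈ (S : Subgroup G)) (hy2 : y * y ≠ 1)
    {a b : G} (ha : a ∈ (S : Subgroup G)) (hb : b ∈ (S : Subgroup G)) (hay : a * y = y * a) (hby : b * y = y * b) :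
    a * b = b * a :=
  (h.shape _ S.isPGroup').2.2 y hy hy2 a ha b hb hay.symm hby.symm

/-- The centraliser of an element of order four is solvable. -/
theorem UT.cent_four (h : UT G q) (ih : IH G q) {S : Sylow 2 G} {y : G} (hy : y ∈ (S : Subgroup G))
    (hy2 : y * y ≠ 1) : Group.IsSolvable (centralizer ({y} : Set G)) := by
  haveI : Fact (Nat.Prime 2) := ⟨Nat.prime_two⟩
  set K := centralizer ({y} : Set G) with hK
  obtain ⟨T, hT⟩ : ∃ T : Sylow 2 K, (T : Subgroup K) = (S : Subgroup G).subgroupOf K := h.cent_sylow hy hy2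
  haveI := FittingCores.pPrimeCore_normal (G := K) 2
  set O := Cfsg.oddCore K with hO
  set f := QuotientGroup.mk' O with hf
  have hfs : Function.Surjective f := QuotientGroup.mk'_surjective O
  have hk : Odd (Nat.card f.ker) := by rw [hf, QuotientGroup.ker_mk']; exact SEBrick.oddCore_odd
  have hmem : ∀ a : K, a ∈ (T : Subgroup K) ↔ (a : G) ∈ (S : Subgroup G) := fun a => by rw [hT]; exact mem_subgroupOf
  set T' := T.mapSurjective hfs with hT'
  have hT'mem : ∀ x ∈ (T' : Subgroup (K ⧸ O)), ∃ a ∈ (T : Subgroup K), f a = x := fun x hx => by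
    rw [hT', Sylow.coe_mapSurjective] at hx
    exact hx
  have hmemT' : ∀ a ∈ (T : Subgroup K), f a ∈ (T' : Subgroup (K ⧸ O)) := fun a ha => by
    rw [hT', Sylow.coe_mapSurjective]
    exact mem_map_of_mem f ha
  have hC : ∀ w : K ⧸ O, orderOf w = 2 → w ∉ center (K ⧸ O) →
      Group.IsSolvable ↥(centralizer ({w} : Set (K ⧸ O))) := by
    intro w hw hwc
    obtain ⟨s, hs, hsw⟩ := AbelCent.exists_invol_lift f hk hfs hw
    have hsG : orderOf (s : G) = 2 := by rw [Subgroup.orderOf_coe]; exact hs
    have hsc : (s : G) ∉ center G := fun e => hwc (mem_center_iff.2 fun k => by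
      obtain ⟨a, rfl⟩ := hfs k
      rw [← hsw, ← map_mul, ← map_mul]
      exact congrArg f (Subtype.ext (mem_center_iff.1 e (a : G))))
    haveI := (h.cent_invol ih hsG hsc).2
    haveI : Group.IsSolvable (centralizer ({s} : Set K)) := by
      let ι : centralizer ({s} : Set K) →* centralizer ({(s : G)} : Set G) :=
        { toFun := fun g => ⟨((g : K) : G), mem_centralizer_singleton_iff.2
            (congrArg Subtype.val (mem_centralizer_singleton_iff.1 g.2))⟩
          map_one' := rfl
          map_mul' := fun _ _ => rfl }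
      exact Group.isSolvable_of_isSolvable_injective (f := ι) fun a b e =>
        Subtype.ext (Subtype.ext (congrArg (fun z : centralizer ({(s : G)} : Set G) => (z : G)) e))
    have hX : IsPGroup 2 (zpowers s) := IsPGroup.of_card (n := 1) (by rw [Nat.card_zpowers, hs, pow_one])
    have h1 := CoprimeQuotient.centralizer_map (p := 2) f hfs (Nat.coprime_two_right.2 hk) hX
    rw [MonoidHom.map_zpowers, hsw, Signalizer.SFT.centralizer_zpowers_eq,
      Signalizer.SFT.centralizer_zpowers_eq] at h1
    rw [h1]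
    exact Group.isSolvable_of_surjective (f.subgroupMap_surjective _)
  haveI : Group.IsSolvable (K ⧸ O) := by
    refine solvable_of_abelian (FittingCores.pPrimeCore_quotient_eq_bot 2 O hO) T' ?_ ?_ ?_ hC
    · intro a ha b hb
      obtain ⟨a, ha', rfl⟩ := hT'mem a ha
      obtain ⟨b, hb', rfl⟩ := hT'mem b hb
      rw [← map_mul, ← map_mul]
      exact congrArg f (Subtype.ext (h.cent_abelian hy hy2 ((hmem a).1 ha') ((hmem b).1 hb')
        (mem_centralizer_singleton_iff.1 a.2) (mem_centralizer_singleton_iff.1 b.2)))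
    · intro a ha
      obtain ⟨a, ha', rfl⟩ := hT'mem a ha
      rw [← map_mul, ← map_mul, show a * a * (a * a) = 1 from Subtype.ext (h.sq_mem S ((hmem a).1 ha')).2, map_one]
    · intro z hz hz2
      obtain ⟨a, ha', rfl⟩ := hT'mem z hz
      have ha2 : a * a = 1 := SESolv.injOn_of_two f hk T.isPGroup' (mul_mem ha' ha') (one_mem _)
        (by rw [map_mul, hz2, map_one])
      obtain ⟨b, hb, hby, hb2⟩ := (h.order_four S hy hy2).2.2 (a : G) ⟨(hmem a).1 ha', congrArg Subtype.val ha2⟩
      refine ⟨f ⟨b, mem_centralizer_singleton_iff.2 hby⟩, hmemT' _ ((hmem _).2 hb), ?_⟩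
      rw [← map_mul]
      exact congrArg f (Subtype.ext hb2)
  haveI : Group.IsSolvable O := OddChar.oddSolvable _ SEBrick.oddCore_odd
  exact Group.isSolvable_of_ker_le_range O.subtype f (by rw [hf, QuotientGroup.ker_mk', range_subtype])

end Cfsg.Agent.UType
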