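import Cfsg.Agent.Lib.UType.CentralInvol
import Cfsg.Agent.Lib.SESolv.Main

/-!
Groups of unitary Sylow type without odd core: 2-closed, or the Sylow normaliser is strongly embedded.
-/

set_option autoImplicit false
set_option linter.style.haveILetI false
set_option linter.unusedSectionVars false

namespace Cfsg.Agent.UType

open Subgroup

universe u

variable {G : Type u} [Group G] [Finite G] {q : ℕ}

theorem solvable_normalizer (S : Sylow 2 G) : Group.IsSolvable (normalizer ((S : Subgroup G) : Set G)) := by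
  refine solvable_of_sylow_normal (S.subtype le_normalizer) ?_
  rw [Sylow.coe_subtype]
  exact normal_in_normalizer

/-- A strongly embedded subgroup is solvable. -/
theorem UT.solvable_of_se (h : UT G q) (ih : IH G q) {H : Subgroup G} (hH : Cfsg.IsStronglyEmbedded H)
    {R : Sylow 2 G} (hR : (R : Subgroup G) ≤ H) : Group.IsSolvable H := by
  haveI : Fact (Nat.Prime 2) := ⟨Nat.prime_two⟩
  haveI := FittingCores.pPrimeCore_normal (G := H) 2
  set O := Cfsg.oddCore H with hO
  set f := QuotientGroup.mk' O with hf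
  have hfs : Function.Surjective f := QuotientGroup.mk'_surjective O
  have hk : Odd (Nat.card f.ker) := by rw [hf, QuotientGroup.ker_mk']; exact SEBrick.oddCore_odd
  have hlt : Nat.card (H ⧸ O) < Nat.card G :=
    lt_of_le_of_lt (Nat.card_le_card_of_surjective f hfs) (Functors.card_lt_of_ne_top hH.1)
  have hU : UT (H ⧸ O) q := (h.sub hR).quot f hfs hk
  rcases ih _ hlt hU (FittingCores.pPrimeCore_quotient_eq_bot 2 O hO) with ⟨P, hP⟩ | ⟨P, hse, hoc⟩
  · haveI : Group.IsSolvable (H ⧸ O) := solvable_of_sylow_normal P hP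
    haveI : Group.IsSolvable O := OddChar.oddSolvable _ SEBrick.oddCore_odd
    exact Group.isSolvable_of_ker_le_range O.subtype f (by rw [hf, QuotientGroup.ker_mk', range_subtype])
  exfalso
  have hHyp : SESolv.Hyp (normalizer ((P : Subgroup (H ⧸ O)) : Set (H ⧸ O))) :=
    ⟨hse, solvable_normalizer P, ⟨hU.omega P, (hU.omega_le P).trans le_normalizer, hU.four_omega P⟩,
      hU.shape.of_injective (normalizer ((P : Subgroup (H ⧸ O)) : Set (H ⧸ O))).subtype (Subgroup.subtype_injective _)⟩
  obtain ⟨g₀, hg₀⟩ : ∃ g : G, g ∉ H := by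
    by_contra hc
    push Not at hc
    exact hH.1 ((eq_top_iff' H).2 hc)
  set b : G ⧸ H := (g₀ : G ⧸ H)
  have hb : b ≠ SESolv.base H := fun e => hg₀ (SESolv.mk_eq_base.1 e)
  refine SESolv.false_of_odd_transitive hHyp hoc
    (D := ((SESolv.twoPt H b).subgroupOf H).map f) ?_ fun s t hs ht => ?_
  · refine Odd.of_dvd_nat ?_ (card_map_dvd _ f)
    rw [Nat.card_congr (subgroupOfEquivOfLe (show SESolv.twoPt H b ≤ H from inf_le_left)).toEquiv]
    exact SESolv.twoPt_odd hH hb
  · obtain ⟨s', hs', rfl⟩ := AbelCent.exists_invol_lift f hk hfs hs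
    obtain ⟨t', ht', rfl⟩ := AbelCent.exists_invol_lift f hk hfs ht
    obtain ⟨d, hd, hdst⟩ := SESolv.twoPt_trans hH hb (s := (s' : G)) (t := (t' : G))
      (by rw [Subgroup.orderOf_coe]; exact hs') s'.2 (by rw [Subgroup.orderOf_coe]; exact ht') t'.2
    refine ⟨f ⟨d, hd.1⟩, mem_map_of_mem f (mem_subgroupOf.2 hd), ?_⟩
    rw [← map_inv, ← map_mul, ← map_mul]
    exact congrArg f (Subtype.ext hdst)

/-- No central involution. -/
theorem UT.res_of_no_central (h : UT G q) (ih : IH G q) (hO : Cfsg.oddCore G = ⊥)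
    (hnc : ∀ t : G, orderOf t = 2 → t ∉ center G) : Res G := by
  haveI : Fact (Nat.Prime 2) := ⟨Nat.prime_two⟩
  obtain ⟨S⟩ : Nonempty (Sylow 2 G) := inferInstance
  have hub : SolvCores.Hub S (h.omega S) := ⟨h.omega_ea S, (h.card_omega S).symm ▸ h.eight, h.omega_le S,
    fun s hs v hv => SEBrick.conj_mem_of (h.omega_normal S hs) hv⟩
  rcases hub.dichotomy hO (fun t ht => (h.cent_invol ih ht (hnc t ht)).2) with hcores | ⟨H, hH, hHO⟩
  · set N := normalizer ((S : Subgroup G) : Set G) with hN
    by_cases hNtop : N = ⊤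
    · exact Or.inl ⟨S, normalizer_eq_top_iff.1 hNtop⟩
    have hCN : ∀ t ∈ N, orderOf t = 2 → centralizer ({t} : Set G) ≤ N := by
      intro t htN ht
      have htS : t ∈ (S : Subgroup G) := le_of_two_le_normalizer
        (IsPGroup.of_card (n := 1) (by rw [Nat.card_zpowers, ht, pow_one])) (zpowers_le.2 htN) (mem_zpowers t)
      have hSC : (S : Subgroup G) ≤ centralizer ({t} : Set G) := fun x hx =>
        mem_centralizer_singleton_iff.2 (h.omega_comm S ⟨htS, Invol.mul_self ht⟩ hx).symm
      exact h.le_normalizer_of_central ih (h.cent_invol ih ht (hnc t ht)).1 hSC ht (hSC htS)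
        (fun k hk => mem_centralizer_singleton_iff.1 hk) (oc_eq_bot (hcores t ht))
    obtain ⟨z, hzS, hz⟩ : ∃ z ∈ h.omega S, orderOf z = 2 := Invol.exists_invol (by
      rw [h.card_omega]
      obtain ⟨k, hk⟩ := IsPGroup.iff_card.1 (S.isPGroup'.to_le (h.omega_le S))
      rw [h.card_omega] at hk
      have h8 := h.eight
      rw [hk, Nat.even_pow]
      exact ⟨even_two, fun h0 => by rw [hk, h0, pow_zero] at h8; omega⟩)
    have hzN : z ∈ N := le_normalizer hzS.1
    refine Or.inr ⟨S, Invol.se_of_centralizers hNtop (S.subtype le_normalizer) (Invol.even_of_invol_mem hz hzN) ?_ hCN, ?_⟩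
    · rw [Sylow.coe_subtype, Subgroup.map_subgroupOf_eq_of_le le_normalizer]
    · have hle : SESolv.oc N ≤ centralizer ({z} : Set G) := fun o ho => by
        have h1 : o * z * o⁻¹ * z⁻¹ ∈ (S : Subgroup G) :=
          mul_mem (SEBrick.conj_mem_of (SESolv.oc_le N ho) hzS.1) (inv_mem hzS.1)
        have h2 : o * z * o⁻¹ * z⁻¹ ∈ SESolv.oc N := by
          rw [show o * z * o⁻¹ * z⁻¹ = o * (z * o⁻¹ * z⁻¹) by group]
          exact mul_mem ho (SEBrick.conj_mem_of (SESolv.oc_normal N hzN) (inv_mem ho))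
        exact mem_centralizer_singleton_iff.2 (mul_inv_eq_iff_eq_mul.1 (mul_inv_eq_one.1
          (SESolv.eq_one_of_two_of_odd S.isPGroup' (SESolv.oc_odd N) h1 h2)))
      exact le_bot_iff.1 (oc_eq_bot (hcores z hz) ▸
        SESolv.le_oc hle (SESolv.oc_odd N) ((hCN z hzN hz).trans (SESolv.oc_normal N)))
  exfalso
  obtain ⟨t, htH, ht⟩ := Invol.exists_invol hH.2.1
  obtain ⟨R, hR⟩ := (IsPGroup.of_card (n := 1) (by rw [Nat.card_zpowers, ht, pow_one]) :
    IsPGroup 2 (zpowers t)).exists_le_sylow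
  have hRH : (R : Subgroup G) ≤ H := fun x hx => Invol.se_centralizer_le hH ht htH
    (mem_centralizer_singleton_iff.2 (h.omega_comm R ⟨hR (mem_zpowers t), Invol.mul_self ht⟩ hx).symm)
  have hHyp : SESolv.Hyp H := ⟨hH, h.solvable_of_se ih hH hRH,
    ⟨h.omega R, (h.omega_le R).trans hRH, h.four_omega R⟩, h.shape.of_injective H.subtype H.subtype_injective⟩
  exact hHO ((Subgroup.map_eq_bot_iff_of_injective _ H.subtype_injective).1 (SESolv.oc_eq_bot hHyp hO))

theorem res_of_card : ∀ (n : ℕ) (G : Type u) [Group G] [Finite G], Nat.card G = n →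
    UT G q → Cfsg.oddCore G = ⊥ → Res G := by
  intro n
  induction n using Nat.strong_induction_on with
  | _ n hind =>
    intro G _ _ hn h hO
    have ih : IH G q := fun K _ _ hK => hind _ (hn ▸ hK) K rfl
    by_cases hc : ∃ t : G, orderOf t = 2 ∧ t ∈ center G
    · obtain ⟨t, ht, htc⟩ := hc
      exact Or.inl (h.normal_of_central_invol ih hO ht htc)
    · push Not at hc
      exact h.res_of_no_central ih hO hc

/-- The main theorem. -/
theorem UT.res (h : UT G q) (hO : Cfsg.oddCore G = ⊥) : Res G := res_of_card _ G rfl h hO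

end Cfsg.Agent.UType
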